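import Groth.Agent.Lib.DefSm26.Cech

/-!
# Čech one-cocycles of derivations and `Ext¹(Ω, O)`
-/

set_option autoImplicit false
set_option linter.style.haveILetI false
set_option backward.isDefEq.respectTransparency false
universe u

noncomputable section

open CategoryTheory CategoryTheory.Limits AlgebraicGeometry Opposite TopologicalSpace
open GrothLib.InvExt (mres mres_mres)

namespace GrothLib.DefSm26

attribute [local instance] LocFreeHom.hasSheafHom

variable {k : Type u} [Field k] {X : Scheme.{u}} (x : X ⟶ Spec (CommRingCat.of k))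
variable {ι : Type u} (U : ι → X.Opens)

/-- One-cocycles are coboundaries, for families of derivations on double overlaps. -/
def CechOne : Prop :=
  ∀ c : ∀ i j, Fld x (U2 U i j),
    (∀ i j l (V : X.affineOpens) (hi : V.1 ≤ U i) (hj : V.1 ≤ U j) (hl : V.1 ≤ U l) (a : Γ(X, V.1)),
      (c j l).D V (le_inf hj hl) a - (c i l).D V (le_inf hi hl) a + (c i j).D V (le_inf hi hj) a = 0) →
    ∃ b : ∀ i, Fld x (U i), ∀ i j (V : X.affineOpens) (hi : V.1 ≤ U i) (hj : V.1 ≤ U j) (a : Γ(X, V.1)),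
      (c i j).D V (le_inf hi hj) a = (b j).D V hj a - (b i).D V hi a

variable [QuasiSeparated x]

theorem W_one_le (a : Fin (1 + 1) → ι) : BCCoh.W U a ≤ U2 U (a 0) (a 1) := le_inf (W_le U a 0) (W_le U a 1)

theorem U2_le_W (i j : ι) : U2 U i j ≤ BCCoh.W U ![i, j] :=
  le_W U _ (Fin.forall_fin_two.2 ⟨inf_le_left, inf_le_right⟩)

/-- The Čech statement from the exactness of the complex. -/
theorem cechOne_of_exact
    (hex : ∀ z : BCCoh.cxX x U (G x) 1, BCCoh.cxd x U (G x) 1 z = 0 →
      ∃ y : BCCoh.cxX x U (G x) 0, BCCoh.cxd x U (G x) 0 y = z) :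
    CechOne x U := by
  intro c hc
  have h2 : ∀ a : Fin (1 + 1) → ι, ∃ s : BCCoh.secA x (G x) (BCCoh.W U a),
      ∀ (V : X.affineOpens) (hV : V.1 ≤ BCCoh.W U a) (r : Γ(X, V.1)),
        evA x V hV r s = (c (a 0) (a 1)).D V (le_inf (hV.trans (W_le U a 0)) (hV.trans (W_le U a 1))) r := by
    intro a
    obtain ⟨s, hs⟩ := exists_section x (U2 U (a 0) (a 1)) (c (a 0) (a 1))
    refine ⟨mres (G x) (W_one_le U a) s, fun V hV r => ?_⟩
    show ev x V.1 (mres (G x) hV (mres (G x) _ s)) r = _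
    rw [mres_mres]
    exact hs V (hV.trans (W_one_le U a)) r
  choose z hz using h2
  have hz0 : BCCoh.cxd x U (G x) 1 (z : BCCoh.cxX x U (G x) 1) = 0 := by
    funext a
    refine section_ext x _ _ fun V hV r => ?_
    show evA x V hV r (BCCoh.cxd x U (G x) 1 z a) = evA x V hV r 0
    rw [map_zero, BCCoh.cxd_apply, map_sum]
    simp only [map_zsmul, evA_resA, hz]
    simp [Fin.sum_univ_succ, Fin.succAbove]
    have := hc (a 0) (a 1) (a 2) V (hV.trans (W_le U a 0)) (hV.trans (W_le U a 1)) (hV.trans (W_le U a 2)) r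
    linear_combination this
  obtain ⟨y, hy⟩ := hex z hz0
  refine ⟨fun i => fld x (mres (G x) (le_W U ![i] (fun r => by fin_cases r; exact le_rfl)) (y ![i])),
    fun i j V hi hj r => ?_⟩
  have hV : V.1 ≤ BCCoh.W U ![i, j] := le_W U _ (fun r => by fin_cases r <;> assumption)
  have h := congrArg (evA x V hV r) (congrFun hy ![i, j])
  rw [BCCoh.cxd_apply, map_sum, hz] at h
  simp only [map_zsmul, evA_resA] at h
  rw [Fin.sum_univ_two] at h
  simp only [Fin.val_zero, Fin.val_one, pow_zero, pow_one, one_smul, neg_smul] at h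
  have key : ∀ (a : Fin (0 + 1) → ι) (a' : Fin (0 + 1) → ι) (e : a = a') (h₁ : V.1 ≤ BCCoh.W U a)
      (h₂ : V.1 ≤ BCCoh.W U a'), evA x V h₁ r (y a) = evA x V h₂ r (y a') := by
    rintro a a' rfl h₁ h₂
    rfl
  have v0 : (fun t : Fin 1 => (![i, j] : Fin 2 → ι) ((0 : Fin 2).succAbove t)) = ![j] := by
    funext t; fin_cases t; rfl
  have v1 : (fun t : Fin 1 => (![i, j] : Fin 2 → ι) ((1 : Fin 2).succAbove t)) = ![i] := by
    funext t; fin_cases t; rfl
  have hj' := le_W U ![j] (fun r => by fin_cases r; exact hj)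
  have hi' := le_W U ![i] (fun r => by fin_cases r; exact hi)
  show _ = ev x V.1 (mres (G x) _ (mres (G x) _ (y ![j]))) r - ev x V.1 (mres (G x) _ (mres (G x) _ (y ![i]))) r
  simp only [mres_mres]
  show _ = evA x V hj' r (y ![j]) - evA x V hi' r (y ![i])
  rw [key _ _ v0 _ hj', key _ _ v1 _ hi'] at h
  change _ = (c i j).D V (le_inf hi hj) r at h
  linear_combination -h

/-- The Čech statement gives the exactness of the complex. -/
theorem exact_of_cechOne (hC : CechOne x U) (z : BCCoh.cxX x U (G x) 1) (hz : BCCoh.cxd x U (G x) 1 z = 0) :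
    ∃ y : BCCoh.cxX x U (G x) 0, BCCoh.cxd x U (G x) 0 y = z := by
  let c : ∀ i j, Fld x (U2 U i j) := fun i j => fld x (mres (G x) (U2_le_W U i j) (z ![i, j]))
  have hc : ∀ i j (V : X.affineOpens) (hi : V.1 ≤ U i) (hj : V.1 ≤ U j) (r : Γ(X, V.1)),
      (c i j).D V (le_inf hi hj) r =
        evA x V ((le_inf hi hj).trans (U2_le_W U i j)) r (z ![i, j]) := fun i j V hi hj r => by
    show ev x V.1 (mres (G x) _ (mres (G x) _ (z ![i, j]))) r = _
    rw [mres_mres]
    rfl
  have key : ∀ (a : Fin (1 + 1) → ι) (a' : Fin (1 + 1) → ι) (V : X.affineOpens) (r : Γ(X, V.1)) (e : a = a')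
      (h₁ : V.1 ≤ BCCoh.W U a) (h₂ : V.1 ≤ BCCoh.W U a'), evA x V h₁ r (z a) = evA x V h₂ r (z a') := by
    rintro a a' V r rfl h₁ h₂
    rfl
  obtain ⟨b, hb⟩ := hC c fun i j l V hi hj hl r => by
    have hV : V.1 ≤ BCCoh.W U ![i, j, l] := le_W U _ (fun r => by fin_cases r <;> assumption)
    have h := congrArg (evA x V hV r) (congrFun hz ![i, j, l])
    rw [BCCoh.cxd_apply, map_sum] at h
    simp only [map_zsmul, evA_resA] at h
    rw [Fin.sum_univ_three] at h
    simp only [Fin.val_zero, Fin.val_one, Fin.val_two, pow_zero, pow_one, neg_one_sq, one_smul, neg_smul] at h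
    have v0 : (fun t : Fin 2 => (![i, j, l] : Fin 3 → ι) ((0 : Fin 3).succAbove t)) = ![j, l] := by
      funext t; fin_cases t <;> rfl
    have v1 : (fun t : Fin 2 => (![i, j, l] : Fin 3 → ι) ((1 : Fin 3).succAbove t)) = ![i, l] := by
      funext t; fin_cases t <;> rfl
    have v2 : (fun t : Fin 2 => (![i, j, l] : Fin 3 → ι) ((2 : Fin 3).succAbove t)) = ![i, j] := by
      funext t; fin_cases t <;> rfl
    rw [key _ _ V r v0 _ ((le_inf hj hl).trans (U2_le_W U j l)),
      key _ _ V r v1 _ ((le_inf hi hl).trans (U2_le_W U i l)),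
      key _ _ V r v2 _ ((le_inf hi hj).trans (U2_le_W U i j))] at h
    change _ = evA x V hV r 0 at h
    rw [map_zero] at h
    rw [hc j l V hj hl, hc i l V hi hl, hc i j V hi hj]
    linear_combination h
  choose s hs using fun i => exists_section x (U i) (b i)
  let y : BCCoh.cxX x U (G x) 0 := fun a => mres (G x) (W_le U a 0) (s (a 0))
  have hy : ∀ (a : Fin (0 + 1) → ι) (V : X.affineOpens) (hV : V.1 ≤ BCCoh.W U a) (r : Γ(X, V.1)),
      evA x V hV r (y a) = (b (a 0)).D V (hV.trans (W_le U a 0)) r := fun a V hV r => by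
    show ev x V.1 (mres (G x) hV (mres (G x) _ _)) r = _
    rw [mres_mres]
    exact hs (a 0) V (hV.trans (W_le U a 0)) r
  refine ⟨y, funext fun a => section_ext x _ _ fun V hV r => ?_⟩
  show evA x V hV r (BCCoh.cxd x U (G x) 0 y a) = evA x V hV r (z a)
  rw [BCCoh.cxd_apply, map_sum]
  simp only [map_zsmul, evA_resA, hy]
  have ea : a = ![a 0, a 1] := by funext t; fin_cases t <;> rfl
  have h := hb (a 0) (a 1) V (hV.trans (W_le U a 0)) (hV.trans (W_le U a 1)) r
  rw [hc (a 0) (a 1) V (hV.trans (W_le U a 0)) (hV.trans (W_le U a 1))] at h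
  rw [key a _ V r ea hV ((le_inf (hV.trans (W_le U a 0)) (hV.trans (W_le U a 1))).trans (U2_le_W U _ _)), h]
  simp [Fin.sum_univ_succ, Fin.succAbove]
  ring

section HH

variable (hU : iSup U = ⊤) (haff : ∀ (n : ℕ) (a : Fin (n + 1) → ι), IsAffineOpen (⨅ r, U (a r)))
  (hG : (G x).IsQuasicoherent)

include hU haff hG

/-- `H¹(Hom(Ω, O))` vanishes exactly when one-cocycles are coboundaries. -/
theorem cechOne_iff_subsingleton : CechOne x U ↔ Subsingleton (Coh.HH X (G x) 1) := by
  obtain ⟨e, -⟩ := BCCoh.exists_linearEquiv x U hU haff 1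
  let K := BCCoh.cx x U (G x)
  let S := K.sc' 0 1 2
  have h1 : S.g.hom = (BCCoh.cxd x U (G x) 1).hom := by
    show (K.d 1 2).hom = _
    rw [show K.d 1 2 = BCCoh.cxd x U (G x) 1 from BCCoh.cx_d _ _ _ 1]
  have h0 : S.f.hom = (BCCoh.cxd x U (G x) 0).hom := by
    show (K.d 0 1).hom = _
    rw [show K.d 0 1 = BCCoh.cxd x U (G x) 0 from BCCoh.cx_d _ _ _ 0]
  let E := (K.homologyIsoSc' 0 1 2 (by simp) (by simp) ≪≫ S.moduleCatHomologyIso).toLinearEquiv.toEquiv
  constructor
  · intro hC
    haveI : Subsingleton S.moduleCatLeftHomologyData.H := by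
      refine subsingleton_of_forall_eq (0 : LinearMap.ker S.g.hom ⧸ LinearMap.range S.moduleCatToCycles) fun q => ?_
      obtain ⟨zc, rfl⟩ := Submodule.Quotient.mk_surjective _ q
      refine (Submodule.Quotient.mk_eq_zero _).2 ?_
      obtain ⟨y, hy⟩ := exact_of_cechOne x U hC zc.1 ((LinearMap.congr_fun h1 zc.1).symm.trans zc.2)
      exact ⟨y, Subtype.ext ((LinearMap.congr_fun h0 y).trans hy)⟩
    haveI : Subsingleton (K.homology 1) := E.subsingleton
    exact (e _ hG).toEquiv.subsingleton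
  · intro hH
    haveI : Subsingleton (K.homology 1) := (e _ hG).symm.toEquiv.subsingleton
    haveI : Subsingleton S.moduleCatLeftHomologyData.H := E.symm.subsingleton
    refine cechOne_of_exact x U fun z hz => ?_
    let zc : LinearMap.ker S.g.hom := ⟨z, by rw [h1]; exact hz⟩
    have : (Submodule.Quotient.mk zc : LinearMap.ker S.g.hom ⧸ LinearMap.range S.moduleCatToCycles) = 0 :=
      @Subsingleton.elim _ (inferInstanceAs (Subsingleton S.moduleCatLeftHomologyData.H)) _ _
    obtain ⟨y, hy⟩ := (Submodule.Quotient.mk_eq_zero _).1 this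
    exact ⟨y, (LinearMap.congr_fun h0 y).symm.trans (congrArg Subtype.val hy)⟩

end HH

/-- `Ext¹(Ω, O) = 0` iff one-cocycles on an affine cover of a smooth separated scheme are coboundaries. -/
theorem cechOne_iff_ext [Smooth x] [IsSeparated x] [HasExt.{u} X.Modules]
    (hU : iSup U = ⊤) (haff : ∀ i, IsAffineOpen (U i)) :
    CechOne x U ↔ Subsingleton (Abelian.Ext.{u} (Omega.sheaf x) (Coh.structureModule X) 1) := by
  haveI : X.IsSeparated := ⟨by
    rw [show terminal.from X = x ≫ terminal.from _ from terminalIsTerminal.hom_ext _ _]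
    infer_instance⟩
  have hΩ := OmegaAb15.isFinLocFree_omega x
  have hO : FlatMod.IsFinLocFree (Coh.structureModule X) := OX.isFinLocFree_structureModule X
  rw [cechOne_iff_subsingleton x U hU (fun n a => IsAffineOpen.iInf fun r => haff (a r))
    (Euler.isQuasicoherent_of_isFinLocFree (LocFreeHom.isFinLocFree_iHom hΩ hO))]
  obtain ⟨e⟩ := LocFreeDual20.nonempty_ext_addEquiv_HH hΩ (Coh.structureModule X) 1
  exact e.toEquiv.subsingleton_congr.symm

end GrothLib.DefSm26
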