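import Groth.Agent.Lib.DefSm26.Local
import Groth.Agent.Lib.DefSm26.Mor

/-!
# The system of rings of a lift
-/

set_option autoImplicit false
set_option maxHeartbeats 800000
set_option linter.style.haveILetI false
set_option backward.isDefEq.respectTransparency false
universe u

noncomputable section

open CategoryTheory CategoryTheory.Limits AlgebraicGeometry Opposite TopologicalSpace ArtFun ArtFun.Art IsLocalRing
open GrothLib.DefFin26 (cst ext red ext_mono isAffineOpen_ext preimage_ext surjective_i_fun)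
open GrothLib.DefAut26 (str)

namespace GrothLib.DefSm26

variable {Λ : Type u} [CommRing Λ] {k : Type u} [Field k] [Algebra Λ k]
variable {X : Scheme.{u}} {x : X ⟶ Spec (CommRingCat.of k)}
variable {A B : Art Λ k} {p : B ⟶ A} {t : B} {ξ : DefSch X x A} {U U' : X.Opens}

/-- Restriction of a system to a smaller open. -/
def Sys.restr (L : Sys p t ξ U) (h : U' ≤ U) : Sys p t ξ U' where
  E V hV := L.E V (hV.trans h)
  res V V' hle hV := L.res V V' hle (hV.trans h)
  res_id V hV b := L.res_id V (hV.trans h) b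
  res_comp V V' V'' hle hle' hV b := L.res_comp V V' V'' hle hle' (hV.trans h) b
  π V hV := L.π V (hV.trans h)
  π_res V V' hle hV b := L.π_res V V' hle (hV.trans h) b
  π_surj V hV := L.π_surj V (hV.trans h)
  s V hV := L.s V (hV.trans h)
  res_s V V' hle hV b := L.res_s V V' hle (hV.trans h) b
  π_s V hV b := L.π_s V (hV.trans h) b
  ker_π V hV b := L.ker_π V (hV.trans h) b
  flat V hV := L.flat V (hV.trans h)
  openImm V V' hle hV := L.openImm V V' hle (hV.trans h)

/-- The identical comparison of two restrictions. -/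
def Mor.restrId (L : Sys p t ξ U) {U₁ U₂ : X.Opens} (h₁ : U₁ ≤ U) (h₂ : U₂ ≤ U) :
    Mor (L.restr h₁) (L.restr h₂) where
  φ V hV hV' := RingHom.id (L.E V (hV.trans h₁))
  res V V' h hV hV' b := rfl
  π V hV hV' b := rfl
  s V hV hV' b := rfl

theorem Mor.bijective {L : Sys p t ξ U} {L' : Sys p t ξ U'} (m : Mor L L') (hs : Small p t)
    (V : X.affineOpens) (hV : V.1 ≤ U) (hV' : V.1 ≤ U') : Function.Bijective (m.φ V hV hV') := by
  refine ⟨(injective_iff_map_eq_zero _).2 fun b hb => ?_, fun b' => ?_⟩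
  · obtain ⟨a, rfl⟩ := L.exists_tm_of_π hs V hV (b := b) (by rw [← m.π V hV hV', hb, map_zero])
    rw [m.tm hs, ← L'.tm_zero hs V hV'] at hb
    rw [L'.tm_inj hs V hV' hb, L.tm_zero hs]
  · obtain ⟨b, hb⟩ := L.π_surj V hV (L'.π V hV' b')
    obtain ⟨a, ha⟩ := L'.exists_tm_of_π hs V hV' (b := b' - m.φ V hV hV' b) (by rw [map_sub, m.π, hb, sub_self])
    exact ⟨b + L.tm V hV a, by rw [map_add, m.tm hs, ← ha, add_sub_cancel]⟩

/-- The inverse comparison. -/
def Mor.symm {L : Sys p t ξ U} {L' : Sys p t ξ U'} (m : Mor L L') (hs : Small p t) : Mor L' L where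
  φ V hV' hV := (RingEquiv.ofBijective _ (m.bijective hs V hV hV')).symm.toRingHom
  res V V' h hV' hV b := by
    refine (m.bijective hs V' (h.trans hV) (h.trans hV')).1 ?_
    rw [m.res V V' h hV hV']
    exact ((RingEquiv.ofBijective _ (m.bijective hs V' (h.trans hV) (h.trans hV'))).apply_symm_apply _).trans
      (congrArg (L'.res V V' h hV') ((RingEquiv.ofBijective _ (m.bijective hs V hV hV')).apply_symm_apply b).symm)
  π V hV' hV b := by
    rw [← m.π V hV hV']
    exact congrArg (L'.π V hV') ((RingEquiv.ofBijective _ (m.bijective hs V hV hV')).apply_symm_apply b)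
  s V hV' hV b := by
    refine (m.bijective hs V hV hV').1 ?_
    rw [m.s]
    exact (RingEquiv.ofBijective _ (m.bijective hs V hV hV')).apply_symm_apply _

theorem Mor.φ_symm {L : Sys p t ξ U} {L' : Sys p t ξ U'} (m : Mor L L') (hs : Small p t)
    (V : X.affineOpens) (hV : V.1 ≤ U) (hV' : V.1 ≤ U') (b : L'.E V hV') :
    m.φ V hV hV' ((m.symm hs).φ V hV' hV b) = b :=
  (RingEquiv.ofBijective _ (m.bijective hs V hV hV')).apply_symm_apply b

namespace Gl

variable (hs : Small p t) {η : DefSch X x B} (a : GrothLib.DefGlue19.Arr p η ξ)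

theorem isPullback' : IsPullback a.hom (𝟙 ξ.total ≫ ξ.f) η.f (specMap p) := by
  rw [Category.id_comp]; exact a.isPullback

theorem ext_le : ext ξ (⊤ : X.Opens) ≤ (𝟙 ξ.total : ξ.total ⟶ ξ.total).opensRange :=
  fun P _ => ⟨P, rfl⟩

/-- The system of the whole lift. -/
def sys : Sys p t ξ (⊤ : X.Opens) := sysOfChart hs.surj (isPullback' a) ext_le hs.ker

/-- The open of the lift over an open. -/
def op (V : X.Opens) : η.total.Opens := op' hs.surj (isPullback' a) V

theorem preimage (V : X.Opens) : a.hom ⁻¹ᵁ op hs a V = ext ξ V :=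
  (preimage_op hs.surj (isPullback' a) V).trans rfl

theorem surjective_hom : Surjective a.hom := surjective_chart (isPullback' a)

theorem mem_op {V : X.Opens} (P : ξ.total) : a.hom P ∈ op hs a V ↔ P ∈ ext ξ V :=
  Iff.of_eq (congrArg (P ∈ ·) (preimage hs a V))

theorem isAffineOpen (V : X.affineOpens) : IsAffineOpen (op hs a V.1) :=
  isAffineOpen_op hs.surj (isPullback' a) ext_le V.2 le_top

/-- The chart of the lift. -/
def fromSpec (V : X.affineOpens) : Spec ((sys hs a).E V le_top) ⟶ η.total := (isAffineOpen hs a V).fromSpec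

instance (V : X.affineOpens) : IsOpenImmersion (fromSpec hs a V) :=
  (isAffineOpen hs a V).isOpenImmersion_fromSpec

theorem range_fromSpec (V : X.affineOpens) : Set.range (fromSpec hs a V) = op hs a V.1 :=
  (isAffineOpen hs a V).range_fromSpec

theorem π_fromSpec (V : X.affineOpens) :
    Spec.map (CommRingCat.ofHom ((sys hs a).π V le_top)) ≫ fromSpec hs a V =
      (isAffineOpen_ext ξ V.2).fromSpec ≫ a.hom := by
  rw [← IsAffineOpen.SpecMap_appLE_fromSpec a.hom (isAffineOpen hs a V) (isAffineOpen_ext ξ V.2)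
    (preimage hs a V.1).ge]
  congr 2
  ext b
  have h := japp_chartπ hs.surj (isPullback' a) ext_le (le_top : V.1 ≤ ⊤) b
  exact h

theorem s_fromSpec (V : X.affineOpens) :
    fromSpec hs a V ≫ η.f = Spec.map (CommRingCat.ofHom ((sys hs a).s V le_top)) :=
  DefAut26.fromSpec_comp η.f (isAffineOpen hs a V)

theorem res_fromSpec (V V' : X.affineOpens) (h : V'.1 ≤ V.1) :
    Spec.map (CommRingCat.ofHom ((sys hs a).res V V' h le_top)) ≫ fromSpec hs a V = fromSpec hs a V' :=
  IsAffineOpen.map_fromSpec (isAffineOpen hs a V) (isAffineOpen hs a V') _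

end Gl

end GrothLib.DefSm26
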