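import Groth.Agent.Lib.DefSm26.Hom
import Groth.Agent.Lib.DefSm26.Glue

/-!
# The charts of a glued lift compare its system with the given systems
-/

set_option autoImplicit false
set_option maxHeartbeats 800000
set_option linter.style.haveILetI false
set_option backward.isDefEq.respectTransparency false
universe u

noncomputable section

open CategoryTheory CategoryTheory.Limits AlgebraicGeometry Opposite TopologicalSpace ArtFun ArtFun.Art IsLocalRing
open GrothLib.DefFin26 (cst ext red ext_mono isAffineOpen_ext)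

namespace GrothLib.DefSm26

variable {Λ : Type u} [CommRing Λ] {k : Type u} [Field k] [Algebra Λ k]
variable {X : Scheme.{u}} {x : X ⟶ Spec (CommRingCat.of k)}
variable {A B : Art Λ k} {p : B ⟶ A} {t : B} {ξ : DefSch X x A} {ι : Type u} {Uc : ι → X.Opens}

open Glue (J ix le_ix R tr qR bijective_qR)

/-- The system of a glued lift is compared with each of the systems glued, compatibly. -/
theorem exists_mors_of_charts (hs : Small p t) {L : ∀ i, Sys p t ξ (Uc i)} {θ : ∀ i j, Mor (L i) (L j)}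
    (hco : IsCocycle L θ) {ζ : DefSch X x B}
    (a : GrothLib.DefGlue19.Arr p ζ ξ) (ch : ∀ V : J Uc, Spec (R L V) ⟶ ζ.total)
    (hf : ∀ V, ch V ≫ ζ.f = Spec.map (CommRingCat.ofHom ((L (ix V)).s V.1 (le_ix V))))
    (htr : ∀ (V V' : J Uc) (h : V' ≤ V), Spec.map (tr L θ h) ≫ ch V = ch V')
    (hg : ∀ V : J Uc, (isAffineOpen_ext ξ V.1.2).fromSpec ≫ a.hom = Spec.map (qR L V) ≫ ch V) :
    ∃ μ : ∀ i, Mor ((Gl.sys hs a).restr (le_top : Uc i ≤ ⊤)) (L i),
      ∀ i j (V : X.affineOpens) (hi : V.1 ≤ Uc i) (hj : V.1 ≤ Uc j) (z : (Gl.sys hs a).E V le_top),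
        (θ i j).φ V hi hj ((μ i).φ V hi hi z) = (μ j).φ V hj hj z := by
  let M := Gl.sys hs a
  have hr : ∀ V : J Uc, Set.range (ch V) ⊆ Set.range (Gl.fromSpec hs a V.1) := by
    intro V
    rintro _ ⟨y, rfl⟩
    obtain ⟨w, rfl⟩ := (bijective_qR (L := L) hs V).2 y
    rw [← Scheme.Hom.comp_apply, ← hg, Gl.range_fromSpec]
    exact (Gl.mem_op hs a _).2 ((isAffineOpen_ext ξ V.1.2).range_fromSpec.subset ⟨w, rfl⟩)
  let m := fun V : J Uc => IsOpenImmersion.lift (Gl.fromSpec hs a V.1) (ch V) (hr V)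
  let α : ∀ V : J Uc, M.E V.1 le_top ⟶ R L V := fun V => Spec.preimage (m V)
  have hα : ∀ V, Spec.map (α V) ≫ Gl.fromSpec hs a V.1 = ch V := fun V => by
    show Spec.map (Spec.preimage _) ≫ _ = _
    rw [Spec.map_preimage]
    exact IsOpenImmersion.lift_fac _ _ _
  have hαπ : ∀ (V : J Uc) z, (L (ix V)).π V.1 (le_ix V) ((α V).hom z) = M.π V.1 le_top z := fun V z => by
    have h1 : α V ≫ qR L V = CommRingCat.ofHom (M.π V.1 le_top) := by
      refine Spec.map_injective ?_
      rw [← cancel_mono (Gl.fromSpec hs a V.1), Spec.map_comp, Category.assoc, hα, Gl.π_fromSpec, ← hg]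
    exact congr($(h1) z)
  have hαs : ∀ (V : J Uc) r, (α V).hom (M.s V.1 le_top r) = (L (ix V)).s V.1 (le_ix V) r := fun V r => by
    have h1 : CommRingCat.ofHom (M.s V.1 le_top) ≫ α V = CommRingCat.ofHom ((L (ix V)).s V.1 (le_ix V)) := by
      refine Spec.map_injective ?_
      rw [Spec.map_comp, ← Gl.s_fromSpec, ← Category.assoc, hα, hf]
    exact congr($(h1) r)
  have hαr : ∀ (V V' : J Uc) (h : V' ≤ V) z,
      (tr L θ h).hom ((α V).hom z) = (α V').hom (M.res V.1 V'.1 h le_top z) := by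
    intro V V' h z
    have h1 : α V ≫ tr L θ h = CommRingCat.ofHom (M.res V.1 V'.1 h le_top) ≫ α V' := by
      refine Spec.map_injective ?_
      rw [← cancel_mono (Gl.fromSpec hs a V.1), Spec.map_comp, Spec.map_comp, Category.assoc, Category.assoc, hα,
        Gl.res_fromSpec hs a V.1 V'.1 h, hα, htr]
    exact congr($(h1) z)
  let v : ∀ (i : ι) (V : X.affineOpens), V.1 ≤ Uc i → J Uc := fun i V h => ⟨V, i, h⟩
  refine ⟨fun i => {
    φ := fun V hV hV' => ((θ (ix (v i V hV)) i).φ V (le_ix (v i V hV)) hV').comp (α (v i V hV)).hom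
    res := fun V V' h hV hV' z => ?_
    π := fun V hV hV' z => ?_
    s := fun V hV hV' r => ?_ }, fun i j V hi hj z => ?_⟩
  · let W := v i V hV
    let W' := v i V' (h.trans hV)
    show (θ (ix W') i).φ V' (le_ix W') _ ((α W').hom (M.res V V' h le_top z)) =
      (L i).res V V' h hV' ((θ (ix W) i).φ V (le_ix W) hV' ((α W).hom z))
    rw [← hαr W W' h z]
    show (θ (ix W') i).φ V' _ _ ((θ (ix W) (ix W')).φ V' _ _ ((L (ix W)).res V V' h _ ((α W).hom z))) = _
    rw [hco (ix W) (ix W') i V' (h.trans (le_ix W)) (le_ix W') (h.trans hV')]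
    exact (θ (ix W) i).res V V' h (le_ix W) hV' _
  · show (L i).π V hV' ((θ (ix (v i V hV)) i).φ V _ _ ((α (v i V hV)).hom z)) = _
    rw [(θ (ix (v i V hV)) i).π]
    exact hαπ (v i V hV) z
  · show (θ (ix (v i V hV)) i).φ V _ _ ((α (v i V hV)).hom (M.s V le_top r)) = _
    exact (congrArg ((θ (ix (v i V hV)) i).φ V (le_ix (v i V hV)) hV') (hαs (v i V hV) r)).trans
      ((θ (ix (v i V hV)) i).s V (le_ix (v i V hV)) hV' r)
  · exact hco (ix (v i V hi)) i j V (le_ix (v i V hi)) hi hj ((α (v i V hi)).hom z)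

end GrothLib.DefSm26
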