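import Groth.Agent.Lib.Euler.Support
import Mathlib.AlgebraicGeometry.Noetherian

/-!
# The complement of a dense open of a one-dimensional Noetherian scheme
-/

set_option autoImplicit false
universe u

open CategoryTheory AlgebraicGeometry TopologicalSpace Topology
open GrothLib

namespace GrothLib.DefSm26

theorem finite_compl_of_dense {X : Scheme.{u}} [IsNoetherian X] (hd : topologicalKrullDim X ≤ 1) {U : X.Opens}
    (hU : Dense (U : Set X)) : (((U : Set X)ᶜ)).Finite ∧ ∀ x ∈ (U : Set X)ᶜ, IsClosed ({x} : Set X) := by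
  have hne : ∀ C ∈ irreducibleComponents X, ¬ C ⊆ (U : Set X)ᶜ := fun C hC hsub => by
    obtain ⟨o, ho, hone, hoC⟩ := NoetherianSpace.exists_isOpen_nonempty_subset_irreducibleComponent C hC
    obtain ⟨x, hx⟩ := hU.inter_open_nonempty o ho hone
    exact hsub (hoC hx.1) hx.2
  have hdim : topologicalKrullDim ((U : Set X)ᶜ : Set X) ≤ 0 := by
    refine Order.krullDim_nonpos_iff_forall_isMax.2 fun a b hab => ?_
    by_contra hlt
    have hlt' : a < b := lt_of_le_not_ge hab hlt
    let ι : IrreducibleCloseds ((U : Set X)ᶜ : Set X) → IrreducibleCloseds X := IrreducibleCloseds.map Subtype.val continuous_subtype_val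
    have hmono : StrictMono ι := IrreducibleCloseds.map_strictMono_of_isInducing IsInducing.subtypeVal
    obtain ⟨C, hC, hbC⟩ := exists_mem_irreducibleComponents_subset_of_isIrreducible _ (ι b).2
    have hb : ι b < ⟨C, hC.1, isClosed_of_mem_irreducibleComponents C hC⟩ := by
      refine lt_of_le_of_ne hbC fun he => hne C hC fun x hx => ?_
      have hx' : x ∈ (ι b : Set X) := he ▸ hx
      have : (ι b : Set X) ⊆ (U : Set X)ᶜ := closure_minimal (by rintro _ ⟨y, -, rfl⟩; exact y.2) U.2.isClosed_compl
      exact this hx'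
    have h2 : ((2 : ℕ) : WithBot ℕ∞) ≤ topologicalKrullDim X :=
      Order.le_krullDim_iff.2 ⟨⟨2, ![ι a, ι b, _], fun i => by fin_cases i; exacts [hmono hlt', hb]⟩, rfl⟩
    exact absurd (h2.trans hd) (by norm_num)
  exact ⟨Euler.finite_of_dim_le_zero U.2.isClosed_compl hdim,
    fun x hx => Euler.isClosed_singleton_of_dim_le_zero U.2.isClosed_compl hdim hx⟩

end GrothLib.DefSm26
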