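import Groth.Agent.Lib.DefGlue19.Functor
import Groth.Agent.Lib.ArtFun.Tangent

/-!
# Extensions of a deformation over a semismall extension as deformations over `k ⊕ M`

For a semismall extension `p : C' ⟶ C` with kernel `M` and one extension `η₀` of `ξ`, gluing along
`C' ×_C C' = C' ×_k (k ⊕ M)` identifies the extensions of `ξ` with the deformations over `k ⊕ M`.
-/

universe u

set_option autoImplicit false
set_option backward.isDefEq.respectTransparency false

noncomputable section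

open CategoryTheory CategoryTheory.Limits AlgebraicGeometry ArtFun ArtFun.Art IsLocalRing
open GrothLib.DefGlue19 (Arr exists_glue isPushout_arr arr_of_eq eq_of_arr exists_iso_of_arr flat_specPt)
open GrothLib.ArtFun (tsze tszeHom)

namespace GrothLib.DefSm26

section Square

variable {Λ k : Type u} [CommRing Λ] [Field k] [Algebra Λ k] {X : Scheme.{u}} {x : X ⟶ specPt k}
variable {B A A' A'' : Art Λ k} {p' : B ⟶ A'} {p'' : B ⟶ A''} {f' : A' ⟶ A} {f'' : A'' ⟶ A}

/-- A deformation over a fibre product is determined by its square, compatibly with the maps. -/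
theorem exists_iso_of_square (h : IsFibreProd p' p'' f' f'') (hf : Function.Surjective f'')
    {ζ₁ ζ₂ : DefSch X x B} {ξ' : DefSch X x A'} {ξ'' : DefSch X x A''} {η : DefSch X x A}
    (a' : Arr f' ξ' η) (a'' : Arr f'' ξ'' η)
    (b₁' : Arr p' ζ₁ ξ') (b₁'' : Arr p'' ζ₁ ξ'') (w₁ : a''.hom ≫ b₁''.hom = a'.hom ≫ b₁'.hom)
    (b₂' : Arr p' ζ₂ ξ') (b₂'' : Arr p'' ζ₂ ξ'') (w₂ : a''.hom ≫ b₂''.hom = a'.hom ≫ b₂'.hom) :
    ∃ φ : ζ₁.Iso ζ₂, b₁'.hom ≫ φ.iso.hom = b₂'.hom ∧ b₁''.hom ≫ φ.iso.hom = b₂''.hom := by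
  have hP₁ := isPushout_arr h hf b₁' b₁'' a' a'' w₁
  have hP₂ := isPushout_arr h hf b₂' b₂'' a' a'' w₂
  refine ⟨⟨hP₁.isoIsPushout _ _ hP₂, ?_, ?_⟩, IsPushout.inr_isoIsPushout_hom _ _ _ _,
    IsPushout.inl_isoIsPushout_hom _ _ _ _⟩
  · apply hP₁.hom_ext
    · rw [← Category.assoc, IsPushout.inl_isoIsPushout_hom, b₁''.isPullback.w, b₂''.isPullback.w]
    · rw [← Category.assoc, IsPushout.inr_isoIsPushout_hom, b₁'.isPullback.w, b₂'.isPullback.w]
  · rw [← b₁'.i_hom, Category.assoc, IsPushout.inr_isoIsPushout_hom, b₂'.i_hom]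

/-- Two restrictions of a deformation along the two legs of a square agree over the corner. -/
theorem exists_arr_of_square (h : p' ≫ f' = p'' ≫ f'') {ζ : DefSch X x B} {ξ' : DefSch X x A'}
    {ξ'' : DefSch X x A''} {η : DefSch X x A} (a' : Arr f' ξ' η) (b' : Arr p' ζ ξ') (b'' : Arr p'' ζ ξ'') :
    ∃ a'' : Arr f'' ξ'' η, a''.hom ≫ b''.hom = a'.hom ≫ b'.hom := by
  have hw : (a'.hom ≫ b'.hom) ≫ ζ.f = (η.f ≫ specMap f'') ≫ specMap p'' := by
    rw [Category.assoc, b'.isPullback.w, reassoc_of% a'.isPullback.w, Category.assoc,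
      ← specMap_comp, ← specMap_comp, h]
  have hpb : IsPullback (a'.hom ≫ b'.hom) η.f ζ.f (specMap f'' ≫ specMap p'') := by
    rw [← specMap_comp, ← h, specMap_comp]
    exact a'.isPullback.paste_horiz b'.isPullback
  refine ⟨⟨b''.isPullback.lift (a'.hom ≫ b'.hom) (η.f ≫ specMap f'') hw, ?_, ?_⟩, b''.isPullback.lift_fst _ _ hw⟩
  · refine IsPullback.of_right ?_ (b''.isPullback.lift_snd _ _ hw) b''.isPullback
    rw [b''.isPullback.lift_fst]
    exact hpb
  · apply b''.isPullback.hom_ext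
    · rw [Category.assoc, b''.isPullback.lift_fst, ← Category.assoc, a'.i_hom, b'.i_hom, b''.i_hom]
    · rw [Category.assoc, b''.isPullback.lift_snd, ← Category.assoc, DefSch.i_f, Category.assoc, specRes_comp,
        DefSch.i_f]

variable (x) in
/-- The map of the closed fibre. -/
def arrBase (η : DefSch X x A) :
    Arr (toBase A) η (DefSch.self (Λ := Λ) X x (flat_specPt x)) where
  hom := η.i
  isPullback := by
    have := η.isPullback
    exact this
  i_hom := Category.id_comp _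

end Square

section ExtSet

variable {Λ k : Type u} [CommRing Λ] [Field k] [Algebra Λ k] {X : Scheme.{u}} {x : X ⟶ specPt k}
variable {C' C : Art Λ k} (p : C' ⟶ C) (ξ : DefSch X x C)

/-- Extensions of `ξ` along `p`. -/
abbrev Extn : Type (u + 1) := Σ η : DefSch X x C', (η.baseChange p).Iso ξ

/-- Isomorphism of extensions. -/
def ExtnRel (a b : Extn p ξ) : Prop := ∃ ψ : a.1.Iso b.1, ((ψ.baseChange p).trans b.2).iso = a.2.iso

variable {p ξ}

/-- The map of `ξ` into an extension. -/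
def Extn.arr (a : Extn p ξ) : Arr p a.1 ξ := (Arr.baseChange a.1 p).trans a.2.symm

theorem extnRel_iff (a b : Extn p ξ) :
    ExtnRel p ξ a b ↔ ∃ ψ : a.1.Iso b.1, a.arr.hom ≫ ψ.iso.hom = b.arr.hom := by
  refine exists_congr fun ψ => ?_
  have hfst : DefSch.pullMap ψ.iso.hom ψ.hom_f p ≫ pullback.fst b.1.f (specMap p) =
      pullback.fst a.1.f (specMap p) ≫ ψ.iso.hom := DefSch.pullMap_fst _ _ _
  show (ψ.baseChange p).iso ≪≫ b.2.iso = a.2.iso ↔
    (a.2.iso.inv ≫ pullback.fst a.1.f (specMap p)) ≫ ψ.iso.hom = b.2.iso.inv ≫ pullback.fst b.1.f (specMap p)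
  constructor
  · intro h
    have h' : DefSch.pullMap ψ.iso.hom ψ.hom_f p ≫ b.2.iso.hom = a.2.iso.hom := congrArg CategoryTheory.Iso.hom h
    rw [Category.assoc, ← hfst, ← Category.assoc]
    congr 1
    rw [← cancel_mono b.2.iso.hom, Category.assoc, h', a.2.iso.inv_hom_id, b.2.iso.inv_hom_id]
  · intro h
    refine CategoryTheory.Iso.ext ?_
    show DefSch.pullMap ψ.iso.hom ψ.hom_f p ≫ b.2.iso.hom = a.2.iso.hom
    rw [← CategoryTheory.Iso.eq_comp_inv]
    apply pullback.hom_ext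
    · rw [hfst, Category.assoc, ← h, Category.assoc, a.2.iso.hom_inv_id_assoc]
    · rw [Category.assoc]
      exact (DefSch.pullMap_snd _ _ _).trans
        ((a.2.hom_f.symm.trans (congrArg (a.2.iso.hom ≫ ·) b.2.symm.hom_f.symm)))

theorem exists_extn {η : DefSch X x C'} (a : Arr p η ξ) : ∃ b : Extn p ξ, ∃ ψ : b.1.Iso η, b.arr.hom ≫ ψ.iso.hom = a.hom := by
  let e : ξ.Iso (η.baseChange p) :=
    { iso := a.isPullback.isoPullback
      hom_f := a.isPullback.isoPullback_hom_snd
      i_hom := by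
        apply pullback.hom_ext
        · rw [Category.assoc, a.isPullback.isoPullback_hom_fst, a.i_hom, DefSch.baseChange_i_fst]
        · rw [Category.assoc, a.isPullback.isoPullback_hom_snd, ξ.i_f]
          exact (DefSch.baseChange_i_f η p).symm }
  refine ⟨⟨η, e.symm⟩, DefSch.Iso.refl η, ?_⟩
  show (a.isPullback.isoPullback.hom ≫ pullback.fst η.f (specMap p)) ≫ 𝟙 _ = a.hom
  rw [Category.comp_id, a.isPullback.isoPullback_hom_fst]

/-- The difference of two points of `C'` with the same image in `C`. -/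
theorem exists_diffHom {M : Type u} [AddCommGroup M] [Module k M] [Module kᵐᵒᵖ M] [IsCentralScalar k M]
    [Module.Finite k M] [Module Λ M] [IsScalarTower Λ k M] [IsScalarTower Λ kᵐᵒᵖ M]
    (ι : M →+ C') (hι : Function.Injective ι) (hker : ∀ c : C', p c = 0 ↔ ∃ m, ι m = c)
    (hsmul : ∀ (c : C') (m : M), c * ι m = ι (C'.res c • m))
    {P : Art Λ k} {q₁ q₂ : P ⟶ C'} (h : IsFibreProd q₁ q₂ p p) :
    ∃ g : P ⟶ tsze Λ k M, IsFibreProd q₁ g (toBase C') (toBase (tsze Λ k M)) ∧
      ∀ z, ι (TrivSqZeroExt.snd (g z)) = q₂ z - q₁ z := by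
  have hd : ∀ z, ∃ m, ι m = q₂ z - q₁ z := fun z =>
    (hker _).1 (by rw [map_sub, sub_eq_zero]; exact (h.w_apply z).symm)
  choose d hd using hd
  have hd_eq : ∀ z m, ι m = q₂ z - q₁ z → d z = m := fun z m hm => hι ((hd z).trans hm.symm)
  let g₀ : P →ₐ[Λ] TrivSqZeroExt k M :=
    { toFun := fun z => (P.res z, d z)
      map_one' := TrivSqZeroExt.ext (map_one P.res) (hd_eq _ _ (by simp))
      map_mul' := fun z w => by
        refine TrivSqZeroExt.ext (map_mul P.res z w) (hd_eq _ _ ?_)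
        show ι (P.res z • d w + MulOpposite.op (P.res w) • d z) = _
        rw [op_smul_eq_smul, map_add]
        have e1 : q₂ z * ι (d w) = ι (P.res z • d w) := by rw [hsmul, Art.res_app q₂ z]
        have e2 : q₁ w * ι (d z) = ι (P.res w • d z) := by rw [hsmul, Art.res_app q₁ w]
        rw [← e1, ← e2, hd, hd, map_mul, map_mul]
        ring
      map_zero' := TrivSqZeroExt.ext (map_zero P.res) (hd_eq _ _ (by simp))
      map_add' := fun z w => TrivSqZeroExt.ext (map_add P.res z w) (hd_eq _ _ (by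
        show ι (d z + d w) = _
        rw [map_add, hd, hd, map_add, map_add]
        ring))
      commutes' := fun r => TrivSqZeroExt.ext (P.res.commutes r) ((hd_eq _ _ (by
        show ι 0 = _
        rw [map_zero, AlgHom.commutes, AlgHom.commutes, sub_self])).trans rfl) }
  let g : P ⟶ tsze Λ k M := ⟨g₀, AlgHom.ext fun z => rfl⟩
  refine ⟨g, ⟨(Art.eq_toBase _).trans (Art.eq_toBase _).symm, fun z w h₁ h₂ => h.inj z w h₁ ?_, fun a c hc => ?_⟩, hd⟩
  · have h3 : d z = d w := congrArg TrivSqZeroExt.snd h₂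
    have := congrArg ι h3
    rw [hd, hd, h₁] at this
    exact sub_left_injective this
  · obtain ⟨z, hz₁, hz₂⟩ := h.surj a (a + ι (TrivSqZeroExt.snd c)) (by
      rw [map_add, (hker _).2 ⟨_, rfl⟩, add_zero])
    refine ⟨z, hz₁, TrivSqZeroExt.ext ?_ (hd_eq _ _ ?_)⟩
    · show P.res z = TrivSqZeroExt.fst c
      rw [← Art.res_app q₁ z]
      exact (congrArg C'.res hz₁).trans hc
    · show ι (TrivSqZeroExt.snd c) = _
      rw [hz₁, hz₂, add_sub_cancel_left]

/-- Extensions of `ξ` correspond to deformations over `k ⊕ M`, `M = ker p`. -/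
theorem nonempty_equiv_extn (hp : Function.Surjective p) (a₀ : Extn p ξ)
    {M : Type u} [AddCommGroup M] [Module k M] [Module kᵐᵒᵖ M] [IsCentralScalar k M]
    [Module.Finite k M] [Module Λ M] [IsScalarTower Λ k M] [IsScalarTower Λ kᵐᵒᵖ M]
    (ι : M →+ C') (hι : Function.Injective ι) (hker : ∀ c : C', p c = 0 ↔ ∃ m, ι m = c)
    (hsmul : ∀ (c : C') (m : M), c * ι m = ι (C'.res c • m)) :
    Nonempty (Quot (ExtnRel p ξ) ≃ (defFunctor X x).obj (tsze Λ k M)) := by
  obtain ⟨P, q₁, q₂, hP⟩ := GrothLib.ArtFun.exists_isFibreProd_of_surjective p p hp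
  obtain ⟨g, hg, -⟩ := exists_diffHom ι hι hker hsmul hP
  have hgs : Function.Surjective (toBase (tsze Λ k M)) := GrothLib.ArtFun.toBase_surjective _
  choose ζ b₁ b₂ hw using fun a : Extn p ξ => exists_glue hP hp a₀.arr a.arr
  let Φ : Extn p ξ → (defFunctor X x).obj (tsze Λ k M) := fun a => (defFunctor X x).map g (ζ a).cl
  have hwd : ∀ a b, ExtnRel p ξ a b → Φ a = Φ b := by
    intro a b hab
    obtain ⟨ψ, hψ⟩ := (extnRel_iff a b).1 hab
    obtain ⟨φ, -⟩ := exists_iso_of_square hP hp a₀.arr a.arr (b₁ a) (b₂ a) (hw a) (b₁ b) ((b₂ b).trans ψ)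
      (by show a.arr.hom ≫ ψ.iso.hom ≫ (b₂ b).hom = _; rw [← Category.assoc, hψ, hw b])
    exact congrArg ((defFunctor X x).map g) (Quotient.sound ⟨φ⟩)
  refine ⟨Equiv.ofBijective (Quot.lift Φ hwd) ⟨?_, ?_⟩⟩
  · intro u v e
    induction u using Quot.ind with | mk a => ?_
    induction v using Quot.ind with | mk b => ?_
    let τ := (ζ a).baseChange g
    let ca : Arr g (ζ a) τ := Arr.baseChange (ζ a) g
    obtain ⟨cb⟩ : Nonempty (Arr g (ζ b) τ) := arr_of_eq (η := τ) (Eq.trans e.symm rfl)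
    obtain ⟨φ, hφ₁, -⟩ := exists_iso_of_square hg hgs (arrBase x a₀.1) (arrBase x τ) (b₁ a) ca
      (ca.i_hom.trans (b₁ a).i_hom.symm) (b₁ b) cb (cb.i_hom.trans (b₁ b).i_hom.symm)
    obtain ⟨ν, hν⟩ := exists_iso_of_arr ((b₂ a).map φ) (b₂ b)
    refine Quot.sound ((extnRel_iff a b).2 ⟨ν, ?_⟩)
    haveI : IsClosedImmersion (specMap q₂) :=
      IsClosedImmersion.spec_of_surjective _ (GrothLib.ArtFun.fp_snd_surjective hP hp)
    haveI : IsClosedImmersion (b₂ b).hom :=
      MorphismProperty.of_isPullback (P := @IsClosedImmersion) (b₂ b).isPullback.flip inferInstance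
    rw [← cancel_mono (b₂ b).hom, Category.assoc, hν]
    show a.arr.hom ≫ (b₂ a).hom ≫ φ.iso.hom = _
    rw [← Category.assoc, hw a, Category.assoc, hφ₁, hw b]
  · intro t
    induction t using Quotient.inductionOn with | h τ => ?_
    obtain ⟨Z, c', cg, -⟩ := exists_glue hg hgs (arrBase x a₀.1) (arrBase x τ)
    let η := Z.baseChange q₂
    let c'' : Arr q₂ Z η := Arr.baseChange Z q₂
    obtain ⟨aη, haη⟩ := exists_arr_of_square hP.w a₀.arr c' c''
    obtain ⟨a, ψ, hψ⟩ := exists_extn aη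
    refine ⟨Quot.mk _ a, ?_⟩
    obtain ⟨φ, -⟩ := exists_iso_of_square hP hp a₀.arr a.arr (b₁ a) (b₂ a) (hw a) c' (c''.trans ψ)
      (by show a.arr.hom ≫ ψ.iso.hom ≫ c''.hom = _; rw [← Category.assoc, hψ, haη])
    show (defFunctor X x).map g (ζ a).cl = τ.cl
    exact (congrArg ((defFunctor X x).map g) (Quotient.sound ⟨φ⟩)).trans (eq_of_arr cg)

end ExtSet

section Semismall

variable {k : Type u} [Field k] {C' C : Art k k} {p : C' ⟶ C}

theorem ker_smul (hp : IsSemismallExt p) (c : C') {t : C'} (ht : p t = 0) :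
    c * t = C'.res c • t := by
  rw [Algebra.smul_def, ← sub_eq_zero, ← sub_mul]
  refine Ideal.mem_bot.1 (hp.2 ▸ Ideal.mul_mem_mul ?_ ht)
  rw [Art.mem_maximalIdeal_iff, map_sub, AlgHom.commutes, sub_eq_zero]
  rfl

theorem finite_ker (hp : IsSemismallExt p) : Module.Finite k ↥(RingHom.ker p.toAlgHom) := by
  obtain ⟨s, hs⟩ := (inferInstance : IsNoetherianRing C').noetherian (RingHom.ker p.toAlgHom)
  refine Module.Finite.iff_fg.2 (?_ : ((RingHom.ker p.toAlgHom).restrictScalars k).FG)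
  refine ⟨s, le_antisymm (Submodule.span_le.2 fun t ht => hs ▸ Submodule.subset_span ht) fun t ht => ?_⟩
  rw [Submodule.restrictScalars_mem, ← hs] at ht
  induction ht using Submodule.span_induction with
  | mem t ht => exact Submodule.subset_span ht
  | zero => exact zero_mem _
  | add a b _ _ ha hb => exact add_mem ha hb
  | smul c a ha hca =>
    rw [smul_eq_mul, ker_smul hp c (t := a) (hs ▸ ha : a ∈ RingHom.ker p.toAlgHom)]
    exact Submodule.smul_mem _ _ hca

end Semismall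

end GrothLib.DefSm26
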