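import Groth.Agent.Lib.DefSm26.Tangent
import Groth.Agent.Lib.Euler.Basic

/-!
# The linear isomorphism of the tangent space with `H¹(X, Hom(Ω, O))`
-/

set_option autoImplicit false
set_option linter.style.haveILetI false
set_option backward.isDefEq.respectTransparency false
universe u

noncomputable section

open CategoryTheory CategoryTheory.Limits AlgebraicGeometry Opposite TopologicalSpace ArtFun ArtFun.Art

namespace GrothLib.DefSm26

variable {k : Type u} [Field k] {X : Scheme.{u}}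

/-- The tangent space of the deformation functor is `H¹` of the tangent sheaf. -/
theorem nonempty_linearEquiv_H1 [X.Over (Spec (CommRingCat.of k))]
    [Smooth (X ↘ Spec (CommRingCat.of k))] [IsSeparated (X ↘ Spec (CommRingCat.of k))]
    [inst : DCoh.HasSheafHom (Omega.sheaf (X ↘ Spec (CommRingCat.of k)))]
    [TangentStr (defFunctor (Λ := k) X (X ↘ Spec (CommRingCat.of k)))] :
    Nonempty (TangentSpace (defFunctor (Λ := k) X (X ↘ Spec (CommRingCat.of k))) ≃ₗ[k]
      Coh.HH X ((DCoh.sheafHom (Omega.sheaf (X ↘ Spec (CommRingCat.of k)))).obj (Coh.structureModule X)) 1) := by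
  let x := X ↘ Spec (CommRingCat.of k)
  haveI : X.IsSeparated := ⟨by
    rw [show terminal.from X = x ≫ terminal.from _ from terminalIsTerminal.hom_ext _ _]
    infer_instance⟩
  choose U hU hzU using fun z : X => exists_isAffineOpen_mem_and_subset (x := z) (U := ⊤) trivial
  have hcov : ∀ z : X, ∃ i, z ∈ U i := fun z => ⟨z, (hzU z).1⟩
  have hsup : iSup U = ⊤ := top_le_iff.1 fun z _ => TopologicalSpace.Opens.mem_iSup.2 (hcov z)
  have hΩ := OmegaAb15.isFinLocFree_omega x
  have hO : FlatMod.IsFinLocFree (Coh.structureModule X) := OX.isFinLocFree_structureModule X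
  have hG : (G x).IsQuasicoherent := Euler.isQuasicoherent_of_isFinLocFree (LocFreeHom.isFinLocFree_iHom hΩ hO)
  obtain ⟨e, he, -⟩ := BCCoh.exists_linearEquiv x U hsup (fun n a => IsAffineOpen.iInf fun r => hU (a r)) 1
  let K := BCCoh.cx x U (G x)
  let S := K.sc' 0 1 2
  let e₁ : Coh.HH X (G x) 1 ≃ₗ[k] K.homology 1 := { e _ hG with map_smul' := fun r z => he _ hG r z }
  let e₂ := (K.homologyIsoSc' 0 1 2 (by simp) (by simp) ≪≫ S.moduleCatHomologyIso).toLinearEquiv
  have h1 : S.g.hom = (BCCoh.cxd x U (G x) 1).hom := by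
    show (K.d 1 2).hom = _
    rw [show K.d 1 2 = BCCoh.cxd x U (G x) 1 from BCCoh.cx_d _ _ _ 1]
  have h0 : S.f.hom = (BCCoh.cxd x U (G x) 0).hom := by
    show (K.d 0 1).hom = _
    rw [show K.d 0 1 = BCCoh.cxd x U (G x) 0 from BCCoh.cx_d _ _ _ 0]
  let eK : LinearMap.ker S.g.hom ≃ₗ[k] Z1 x U := LinearEquiv.ofEq _ _ (congrArg LinearMap.ker h1)
  have hR : (LinearMap.range S.moduleCatToCycles).map (eK : LinearMap.ker S.g.hom →ₗ[k] Z1 x U) = B1 x U := by
    refine Submodule.ext fun zc => ⟨?_, ?_⟩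
    · rintro ⟨w, ⟨y, rfl⟩, rfl⟩
      exact ⟨y, (LinearMap.congr_fun h0 y).symm⟩
    · rintro ⟨y, hy⟩
      exact ⟨S.moduleCatToCycles y, ⟨y, rfl⟩, Subtype.ext ((LinearMap.congr_fun h0 y).trans hy)⟩
  let e₃ : (LinearMap.ker S.g.hom ⧸ LinearMap.range S.moduleCatToCycles) ≃ₗ[k] H1C x U :=
    Submodule.Quotient.equiv _ _ eK hR
  let ψ := LinearEquiv.ofBijective (psiL (x := x) (U := U) hU) (bijective_psiL hU hcov)
  exact ⟨ψ ≪≫ₗ e₃.symm ≪≫ₗ e₂.symm ≪≫ₗ e₁.symm⟩

end GrothLib.DefSm26
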