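import Groth.Agent.Lib.DefSm26.ExtSet
import Groth.Agent.Lib.DefSm26.TangentH
import Mathlib.LinearAlgebra.TensorProduct.Pi

/-!
# Extensions of a deformation of a smooth scheme form `H¹(T) ⊗ ker p`
-/

universe u

set_option autoImplicit false
set_option backward.isDefEq.respectTransparency false

noncomputable section

open CategoryTheory CategoryTheory.Limits AlgebraicGeometry ArtFun ArtFun.Art
open scoped TensorProduct

namespace GrothLib.DefSm26

variable {k : Type u} [Field k] {X : Scheme.{u}}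

theorem nonempty_equiv_extn_H1 [X.Over (Spec (CommRingCat.of k))]
    [Smooth (X ↘ Spec (CommRingCat.of k))] [IsSeparated (X ↘ Spec (CommRingCat.of k))]
    [inst : DCoh.HasSheafHom (Omega.sheaf (X ↘ Spec (CommRingCat.of k)))]
    {C' C : Art k k} (p : C' ⟶ C) (hp : IsSemismallExt p)
    (ξ : DefSch X (X ↘ Spec (CommRingCat.of k)) C) (a₀ : Extn p ξ) :
    Nonempty (Quot (ExtnRel p ξ) ≃
      (Coh.HH X ((DCoh.sheafHom (Omega.sheaf (X ↘ Spec (CommRingCat.of k)))).obj (Coh.structureModule X)) 1 ⊗[k]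
        ↥(RingHom.ker p.toAlgHom))) := by
  haveI := finite_ker hp
  let F := defFunctor (Λ := k) X (X ↘ Spec (CommRingCat.of k))
  have h0 : H0 F := GrothLib.DefGlue19.h0_defFunctor X _
  have h2 : Heps F := GrothLib.DefGlue19.heps_defFunctor X _
  haveI : TangentStr F := (GrothLib.ArtFun.nonempty_tangentStr h0 h2).some
  obtain ⟨L⟩ := nonempty_linearEquiv_H1 (k := k) (X := X)
  let n := Module.finrank k ↥(RingHom.ker p.toAlgHom)
  let e : (Fin n → k) ≃ₗ[k] ↥(RingHom.ker p.toAlgHom) := (Module.finBasis k _).equivFun.symm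
  let ι : (Fin n → k) →+ C' :=
    { toFun := fun v => (e v : C')
      map_zero' := by rw [map_zero]; rfl
      map_add' := fun v w => by rw [map_add]; rfl }
  obtain ⟨E₁⟩ := nonempty_equiv_extn hp.1 a₀ ι (fun v w h => e.injective (Subtype.ext h))
    (fun c => ⟨fun h => ⟨e.symm ⟨c, h⟩, congrArg Subtype.val (e.apply_symm_apply _)⟩, by
      rintro ⟨m, rfl⟩
      exact (e m).2⟩)
    (fun c m => by
      show c * (e m : C') = (e (C'.res c • m) : C')
      rw [map_smul, ker_smul hp c (e m).2]
      rfl)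
  let E₂ := Equiv.ofBijective _ (GrothLib.ArtFun.coords_bijective h0 h2 n)
  let E₃ : (Fin n → F.obj (GrothLib.ArtFun.tsze k k k)) ≃
      (Fin n → Coh.HH X ((DCoh.sheafHom (Omega.sheaf (X ↘ Spec (CommRingCat.of k)))).obj (Coh.structureModule X)) 1) :=
    Equiv.piCongrRight fun _ => L.toEquiv
  exact ⟨E₁.trans (E₂.trans (E₃.trans ((TensorProduct.piScalarRight k k _ (Fin n)).symm.trans
    (TensorProduct.congr (LinearEquiv.refl k _) e)).toEquiv))⟩

end GrothLib.DefSm26
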