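import Groth.Agent.Lib.DefFin26.Cx
import Groth.Agent.Lib.LocFreeHom.Lift
import Groth.Agent.Lib.OmAff9.Basic
import Groth.Agent.Lib.Torsor26.Basic
import Groth.Agent.Lib.WedgePair27.Sheaf
import Groth.Agent.Lib.FundIso27.Ev
import Groth.Prelude.Def_OmAff
import Groth.Prelude.Def_Coh

/-!
# Sections of `Hom(Ω, O)` as compatible families of derivations on affine opens
-/

set_option autoImplicit false
set_option maxHeartbeats 800000
set_option linter.style.haveILetI false
set_option backward.isDefEq.respectTransparency false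
universe u

noncomputable section

open CategoryTheory CategoryTheory.Limits AlgebraicGeometry Opposite TopologicalSpace
open GrothLib.InvExt (mres mres_mres mres_self mres_smul fres)
open GrothLib.DefFin26 (cst)

namespace GrothLib.DefSm26

attribute [local instance] LocFreeHom.hasSheafHom

variable {k : Type u} [Field k] {X : Scheme.{u}} (x : X ⟶ Spec (CommRingCat.of k))

/-- A compatible family of `k`-derivations of the functions on the affine opens in `W`. -/
structure Fld (W : X.Opens) : Type u where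
  D : ∀ V : X.affineOpens, V.1 ≤ W → Γ(X, V.1) → Γ(X, V.1)
  add : ∀ V hV a b, D V hV (a + b) = D V hV a + D V hV b
  mul : ∀ V hV a b, D V hV (a * b) = a * D V hV b + b * D V hV a
  cst_eq_zero : ∀ V hV c, D V hV (cst x V.1 c) = 0
  res : ∀ (V V' : X.affineOpens) (h : V'.1 ≤ V.1) hV a,
    fres X h (D V hV a) = D V' (h.trans hV) (fres X h a)

variable [QuasiSeparated x]

/-- `Hom(Ω, O)`. -/
abbrev G : X.Modules := LocFreeHom.iHom (Omega.sheaf x) (Coh.structureModule X)

/-- The value of a section of `Hom(Ω, O)` at the differential of a function. -/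
def ev (V : X.Opens) (s : Γ(G x, V)) (a : Γ(X, V)) : Γ(X, V) :=
  OmegaSh.fnSect X V ((LocFreeHom.ev (Omega.sheaf x) (Coh.structureModule X)).app V
    (OX.tmulSec (Omega.sheaf x) (G x) V (OmegaSh.dSect x V a) s))

theorem ev_add_left (V : X.Opens) (s s' : Γ(G x, V)) (a : Γ(X, V)) : ev x V (s + s') a = ev x V s a + ev x V s' a :=
  (congrArg (fun z => OmegaSh.fnSect X V ((LocFreeHom.ev (Omega.sheaf x) (Coh.structureModule X)).app V z))
    (OX.tmulSec_add_right _ _ V _ s s')).trans ((congrArg (OmegaSh.fnSect X V) (map_add _ _ _)).trans (map_add _ _ _))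

theorem ev_add (V : X.Opens) (s : Γ(G x, V)) (a b : Γ(X, V)) : ev x V s (a + b) = ev x V s a + ev x V s b := by
  unfold ev
  rw [OmegaSh.dSect_add]
  refine (congrArg (fun z => OmegaSh.fnSect X V ((LocFreeHom.ev (Omega.sheaf x) (Coh.structureModule X)).app V z))
    (OX.tmulSec_add_left _ _ V _ _ s)).trans ?_
  exact (congrArg (OmegaSh.fnSect X V) (map_add _ _ _)).trans (map_add _ _ _)

theorem ev_mul (V : X.Opens) (s : Γ(G x, V)) (a b : Γ(X, V)) :
    ev x V s (a * b) = a * ev x V s b + b * ev x V s a := by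
  unfold ev
  rw [OmegaSh.dSect_mul]
  refine (congrArg (fun z => OmegaSh.fnSect X V ((LocFreeHom.ev (Omega.sheaf x) (Coh.structureModule X)).app V z))
    ((OX.tmulSec_add_left _ _ V _ _ s).trans
      (congrArg₂ (· + ·) (OX.tmulSec_smul_left _ _ V a _ s) (OX.tmulSec_smul_left _ _ V b _ s)))).trans ?_
  refine (congrArg (OmegaSh.fnSect X V) ((map_add _ _ _).trans
    (congrArg₂ (· + ·) (Scheme.Modules.Hom.app_smul _ a _) (Scheme.Modules.Hom.app_smul _ b _)))).trans ?_
  exact map_add _ _ _

theorem cst_eq (V : X.Opens) (c : k) :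
    cst x V c = x.appLE ⊤ V le_top ((Scheme.ΓSpecIso (CommRingCat.of k)).inv c) := rfl

theorem ev_cst (V : X.Opens) (s : Γ(G x, V)) (c : k) : ev x V s (cst x V c) = 0 := by
  unfold ev
  rw [cst_eq, OmAff.dSect_appLE]
  have h0 : OX.tmulSec (Omega.sheaf x) (G x) V (0 : Γ(Omega.sheaf x, V)) s = 0 := by
    have h := OX.tmulSec_add_left (Omega.sheaf x) (G x) V (0 : Γ(Omega.sheaf x, V)) (0 : Γ(Omega.sheaf x, V)) s
    erw [add_zero] at h
    exact (left_eq_add.1 h)
  exact (congrArg (fun z => OmegaSh.fnSect X V ((LocFreeHom.ev (Omega.sheaf x) (Coh.structureModule X)).app V z))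
    h0).trans ((congrArg (OmegaSh.fnSect X V) (map_zero _)).trans (map_zero _))

theorem ev_res {V V' : X.Opens} (h : V' ≤ V) (s : Γ(G x, V)) (a : Γ(X, V)) :
    fres X h (ev x V s a) = ev x V' (mres (G x) h s) (fres X h a) := by
  unfold ev
  rw [fres, fres, OmegaSh.dSect_map]
  let e := LocFreeHom.ev (Omega.sheaf x) (Coh.structureModule X)
  refine ((ConcreteCategory.congr_hom (e.mapPresheaf.naturality (homOfLE h).op) _).symm.trans ?_)
  exact congrArg (fun z => e.app V' z) (GenFlatBC9.res_tmulSec (Omega.sheaf x) (G x) h _ s)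

/-- The family of derivations of a section. -/
def fld {W : X.Opens} (s : Γ(G x, W)) : Fld x W where
  D V hV a := ev x V.1 (mres (G x) hV s) a
  add V hV a b := ev_add x _ _ a b
  mul V hV a b := ev_mul x _ _ a b
  cst_eq_zero V hV c := ev_cst x _ _ c
  res V V' h hV a := by rw [ev_res, mres_mres]

/-! ### Maps out of `Ω` on an open -/

section Open

variable (W : X.Opens)

/-- The extension by zero of the structure sheaf of `W`. -/
abbrev jO : X.Modules := (CxOX.extZero W.ι).obj (Coh.structureModule W.toScheme)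

/-- Its section `1`. -/
def one (V' : W.toScheme.Opens) : Γ(jO W, W.ι ''ᵁ V') :=
  ((CxOX.extZeroAdj W.ι).unit.app (Coh.structureModule W.toScheme)).app V' (1 : Γ(W.toScheme, V'))

/-- The projection to the structure sheaf. -/
def toStr : jO W ⟶ Coh.structureModule X :=
  ((CxOX.extZeroAdj W.ι).homEquiv _ _).symm (Scheme.Modules.restrictUnitIso W.ι).inv

theorem toStr_one (V' : W.toScheme.Opens) : (toStr W).app (W.ι ''ᵁ V') (one W V') = (1 : Γ(X, W.ι ''ᵁ V')) := by
  have h := (CxOX.extZeroAdj W.ι).homEquiv_unit (Coh.structureModule W.toScheme) (Coh.structureModule X) (toStr W)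
  rw [toStr, Equiv.apply_symm_apply] at h
  have h' := ConcreteCategory.congr_hom (congrArg (fun m => Scheme.Modules.Hom.app m V') h.symm)
    (1 : Γ(W.toScheme, V'))
  refine h'.trans ?_
  show (W.ι.appIso V').inv.hom (1 : Γ(W.toScheme, V')) = 1
  exact map_one _

theorem isIso_restrict_toStr : IsIso ((Scheme.Modules.restrictFunctor W.ι).map (toStr W)) := by
  have h := (CxOX.extZeroAdj W.ι).homEquiv_unit (Coh.structureModule W.toScheme) (Coh.structureModule X) (toStr W)
  rw [toStr, Equiv.apply_symm_apply] at h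
  exact IsIso.of_isIso_fac_left h.symm

/-- `Ω ⊗ j_!O ⟶ Ω`. -/
def tau : (LocFreeHom.T (Omega.sheaf x)).obj (jO W) ⟶ Omega.sheaf x :=
  (LocFreeHom.T (Omega.sheaf x)).map (toStr W) ≫ (FundIso27.unitR (Omega.sheaf x)).hom

theorem tau_tmul (V' : W.toScheme.Opens) (m : Γ(Omega.sheaf x, W.ι ''ᵁ V')) :
    (tau x W).app (W.ι ''ᵁ V') (OX.tmulSec (Omega.sheaf x) (jO W) _ m (one W V')) = m := by
  show (FundIso27.unitR (Omega.sheaf x)).hom.app _ (((LocFreeHom.T (Omega.sheaf x)).map (toStr W)).app _ _) = m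
  rw [WedgePair27.tMap_right_tmulSec, toStr_one]
  exact (FundIso27.unitR_tmulSec (Omega.sheaf x) _ m 1).trans (one_smul _ m)

theorem isIso_restrict_tau : IsIso ((Scheme.Modules.restrictFunctor W.ι).map (tau x W)) := by
  haveI := isIso_restrict_toStr W
  haveI := LocFreeHom.isIso_restrict_T_map W.ι (Omega.sheaf x) (toStr W) (isIso_restrict_toStr W)
  rw [tau, Functor.map_comp]
  infer_instance

theorem isIso_counit :
    IsIso ((CxOX.extZeroAdj W.ι).counit.app ((LocFreeHom.T (Omega.sheaf x)).obj (jO W))) :=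
  Torsor26.isIso_counit_of_isZero_stalk W.ι _
    (fun z hz => Torsor26.isZero_stalk_tensor_extZero W.ι (Omega.sheaf x) _ z hz)

/-- The affine open of `X` of an affine open of `W`. -/
def img (V' : W.toScheme.affineOpens) : X.affineOpens := ⟨W.ι ''ᵁ V'.1, V'.2.image_of_isOpenImmersion W.ι⟩

theorem img_le (V' : W.toScheme.affineOpens) : (img W V').1 ≤ W := by
  show W.ι ''ᵁ V'.1 ≤ W
  exact (W.ι.image_le_opensRange V'.1).trans W.opensRange_ι.le

/-- The differentials span the sections of `Ω` on affine opens. -/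
theorem omega_induction {V : X.Opens} (hV : IsAffineOpen V) {P : Γ(Omega.sheaf x, V) → Prop} (h0 : P 0)
    (hd : ∀ a, P (OmegaSh.dSect x V a)) (hadd : ∀ m m', P m → P m' → P (m + m'))
    (hsmul : ∀ (r : Γ(X, V)) m, P m → P (r • m)) (m : Γ(Omega.sheaf x, V)) : P m := by
  have hb := OmAff9.bijective_toSect x hV (isAffineOpen_top _) (le_top : V ≤ x ⁻¹ᵁ ⊤)
  obtain ⟨z, rfl⟩ := hb.2 m
  let L := OmAff.toSect x ⊤ V le_top
  letI := (x.appLE ⊤ V le_top).hom.toAlgebra
  have hz : z ∈ Submodule.span Γ(X, V)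
      (Set.range (KaehlerDifferential.D Γ(Spec (CommRingCat.of k), ⊤) Γ(X, V))) := by
    rw [KaehlerDifferential.span_range_derivation]; trivial
  induction hz using Submodule.span_induction with
  | mem y hy =>
    obtain ⟨b, rfl⟩ := hy
    exact (OmAff.toSect_d x ⊤ V le_top b).symm ▸ hd b
  | zero => exact (map_zero L.hom).symm ▸ h0
  | add y y' _ _ hy hy' => exact (map_add L.hom y y').symm ▸ hadd _ _ hy hy'
  | smul r y _ hy => exact (map_smul L.hom r y).symm ▸ hsmul r _ hy

/-- A map out of `Ω` on `W` from a family of derivations. -/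
theorem exists_lam (E : Fld x W) :
    ∃ lam : (Scheme.Modules.restrictFunctor W.ι).obj (Omega.sheaf x) ⟶
        (Scheme.Modules.restrictFunctor W.ι).obj (Coh.structureModule X),
      ∀ (V' : W.toScheme.affineOpens) (a : Γ(X, (img W V').1)),
        lam.app V'.1 (OmegaSh.dSect x (img W V').1 a) = OmegaSh.strSect X _ (E.D (img W V') (img_le W V') a) := by
  have h : ∀ V' : W.toScheme.affineOpens, ∃ ψ : Γ(Omega.sheaf x, (img W V').1) →ₗ[Γ(X, (img W V').1)]
      Γ(Coh.structureModule X, (img W V').1),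
      ∀ a, ψ (OmegaSh.dSect x _ a) = OmegaSh.strSect X _ (E.D (img W V') (img_le W V') a) := by
    intro V'
    let V := img W V'
    have hb := OmAff9.bijective_toSect x V.2 (isAffineOpen_top _) (le_top : V.1 ≤ x ⁻¹ᵁ ⊤)
    let M := OmAff.sectMod (Coh.structureModule X) V.1
    let δ : M.Derivation (x.appLE ⊤ V.1 le_top) := ModuleCat.Derivation.mk
      (fun a => OmegaSh.strSect X V.1 (E.D V (img_le W V') a))
      (fun a b => (congrArg (OmegaSh.strSect X V.1) (E.add V _ a b)).trans (map_add _ _ _))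
      (fun a b => congrArg (OmegaSh.strSect X V.1) (E.mul V _ a b))
      (fun c => by
        obtain ⟨c', rfl⟩ := (ConcreteCategory.bijective_of_isIso (Scheme.ΓSpecIso (CommRingCat.of k)).inv).2 c
        exact (congrArg (OmegaSh.strSect X V.1) (E.cst_eq_zero V _ c')).trans (map_zero _))
    let e := LinearEquiv.ofBijective (OmAff.toSect x ⊤ V.1 le_top).hom hb
    refine ⟨δ.desc.hom.comp e.symm.toLinearMap, fun a => ?_⟩
    show δ.desc (e.symm (OmegaSh.dSect x V.1 a)) = _
    rw [show e.symm (OmegaSh.dSect x V.1 a) = CommRingCat.KaehlerDifferential.d a from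
      e.injective ((e.apply_symm_apply _).trans (OmAff.toSect_d x ⊤ V.1 le_top a).symm)]
    exact δ.desc_d a
  choose ψ hψ using h
  let N := (Scheme.Modules.restrictFunctor W.ι).obj (Coh.structureModule X)
  let M := (Scheme.Modules.restrictFunctor W.ι).obj (Omega.sheaf x)
  let ψ' : ∀ V' : W.toScheme.affineOpens, Γ(M, V'.1) →ₗ[Γ(W.toScheme, V'.1)] Γ(N, V'.1) := fun V' =>
    { toFun := fun m => ψ V' m
      map_add' := fun m m' => map_add (ψ V') _ _
      map_smul' := fun r m => by
        have h1 := ConcreteCategory.congr_hom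
          (Scheme.Modules.smul_restrictAppIso_hom W.ι (Omega.sheaf x) V'.1 r) m
        refine (congrArg (ψ V') h1).trans ((map_smul (ψ V') _ _).trans ?_)
        exact (ConcreteCategory.congr_hom
          (Scheme.Modules.smul_restrictAppIso_hom W.ι (Coh.structureModule X) V'.1 r) (ψ V' m)).symm }
  obtain ⟨lam, hlam⟩ := AffHom.exists_hom (M := M) (N := N) ψ' (fun U' V' hle m => by
    have hle' : (img W V').1 ≤ (img W U').1 := W.ι.image_mono hle
    show mres (Coh.structureModule X) hle' (ψ U' m) = ψ V' (mres (Omega.sheaf x) hle' m)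
    refine omega_induction x (img W U').2 (P := fun m => mres (Coh.structureModule X) hle' (ψ U' m) =
      ψ V' (mres (Omega.sheaf x) hle' m)) ?_ ?_ ?_ ?_ m
    · simp only [mres, map_zero]
    · intro a
      rw [hψ, show mres (Omega.sheaf x) hle' (OmegaSh.dSect x _ a) = OmegaSh.dSect x _ (fres X hle' a) from
        (OmegaSh.dSect_map x hle' a).symm, hψ]
      exact congrArg (OmegaSh.strSect X _) (E.res (img W U') (img W V') hle' _ a)
    · intro m m' hm hm'
      simp only [mres, map_add] at hm hm' ⊢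
      rw [hm, hm']
    · intro r m hm
      rw [map_smul, mres_smul, mres_smul, map_smul, hm])
  exact ⟨lam, fun V' a => (hlam V' _).trans (hψ V' a)⟩

/-- Every family of derivations on `W` comes from a section. -/
theorem exists_section (E : Fld x W) :
    ∃ s : Γ(G x, W), ∀ (V : X.affineOpens) (hV : V.1 ≤ W) (a : Γ(X, V.1)),
      ev x V.1 (mres (G x) hV s) a = E.D V hV a := by
  obtain ⟨lam, hlam⟩ := exists_lam x W E
  let adj := CxOX.extZeroAdj W.ι
  let T' := (LocFreeHom.T (Omega.sheaf x)).obj (jO W)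
  haveI : IsIso (adj.counit.app T') := isIso_counit x W
  let R := Scheme.Modules.restrictFunctor W.ι
  let φ₀ := (adj.homEquiv (R.obj T') (Coh.structureModule X)).symm (R.map (tau x W) ≫ lam)
  let φ : T' ⟶ Coh.structureModule X := inv (adj.counit.app T') ≫ φ₀
  have hφ : R.map φ = R.map (tau x W) ≫ lam := by
    have h1 : R.map (inv (adj.counit.app T')) = adj.unit.app (R.obj T') := by
      rw [Functor.map_inv, IsIso.inv_eq_of_inv_hom_id]
      exact adj.right_triangle_components T'
    rw [Functor.map_comp, h1]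
    exact ((adj.homEquiv_unit _ _ φ₀).symm.trans ((adj.homEquiv _ _).apply_symm_apply _))
  let h : jO W ⟶ G x := LocFreeHom.curry φ
  have hW : W ≤ W.ι ''ᵁ ⊤ := (Scheme.Opens.ι_image_top W).ge
  refine ⟨mres (G x) hW (h.app _ (one W ⊤)), fun V hV a => ?_⟩
  obtain ⟨V', rfl⟩ : ∃ V' : W.toScheme.affineOpens, img W V' = V :=
    ⟨⟨W.ι ⁻¹ᵁ V.1, V.2.preimage_of_isOpenImmersion W.ι (hV.trans W.opensRange_ι.ge)⟩,
      Subtype.ext ((W.ι.image_preimage_eq_opensRange_inf V.1).trans
        (inf_eq_right.2 (hV.trans W.opensRange_ι.ge)))⟩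
  have h1 : mres (G x) hV (mres (G x) hW (h.app _ (one W ⊤))) = h.app _ (one W V'.1) := by
    rw [mres_mres]
    have h2 : mres (jO W) (W.ι.image_mono (le_top : V'.1 ≤ ⊤)) (one W ⊤) = one W V'.1 := by
      refine ((ConcreteCategory.congr_hom
        ((adj.unit.app (Coh.structureModule W.toScheme)).mapPresheaf.naturality
          (homOfLE (le_top : V'.1 ≤ ⊤)).op) (1 : Γ(W.toScheme, ⊤))).symm.trans ?_)
      exact congrArg _ (map_one (W.toScheme.presheaf.map (homOfLE (le_top : V'.1 ≤ ⊤)).op).hom)
    rw [← h2]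
    exact (ConcreteCategory.congr_hom (h.mapPresheaf.naturality
      (homOfLE (W.ι.image_mono (le_top : V'.1 ≤ ⊤))).op) (one W ⊤)).symm
  rw [h1]
  have h3 : (LocFreeHom.ev (Omega.sheaf x) (Coh.structureModule X)).app _
      (OX.tmulSec (Omega.sheaf x) (G x) (img W V').1 (OmegaSh.dSect x _ a) (h.app _ (one W V'.1))) =
      φ.app _ (OX.tmulSec (Omega.sheaf x) (jO W) (img W V').1 (OmegaSh.dSect x _ a) (one W V'.1)) := by
    rw [← WedgePair27.tMap_right_tmulSec (Omega.sheaf x) h]
    exact congrArg (fun m : T' ⟶ Coh.structureModule X =>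
      m.app _ (OX.tmulSec (Omega.sheaf x) (jO W) (img W V').1 (OmegaSh.dSect x _ a) (one W V'.1)))
      (LocFreeHom.uncurry_curry φ)
  have h4 := ConcreteCategory.congr_hom (congrArg (fun m => Scheme.Modules.Hom.app m V'.1) hφ)
    (OX.tmulSec (Omega.sheaf x) (jO W) (img W V').1 (OmegaSh.dSect x _ a) (one W V'.1))
  refine (congrArg (OmegaSh.fnSect X _) (h3.trans (h4.trans ?_))).trans (congrArg (OmegaSh.fnSect X _) (hlam V' a))
  exact congrArg (fun m => lam.app V'.1 m) (tau_tmul x W V'.1 _)

/-- A section of `Hom(Ω, O)` killing all differentials vanishes. -/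
theorem section_eq_zero (s : Γ(G x, W))
    (hs : ∀ (V : X.affineOpens) (hV : V.1 ≤ W) (a : Γ(X, V.1)), ev x V.1 (mres (G x) hV s) a = 0) : s = 0 := by
  let adj := CxOX.extZeroAdj W.ι
  let R := Scheme.Modules.restrictFunctor W.ι
  have hW : W.ι ''ᵁ ⊤ ≤ W := (Scheme.Opens.ι_image_top W).le
  let s₀ : Γ(R.obj (G x), ⊤) := mres (G x) hW s
  let σ : Coh.structureModule W.toScheme ⟶ R.obj (G x) := FinCov.homOfSection s₀
  let h : jO W ⟶ G x := (adj.homEquiv _ _).symm σ
  have hh : ∀ V', h.app (W.ι ''ᵁ V') (one W V') =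
      mres (G x) ((W.ι.image_mono le_top).trans hW) s := fun V' => by
    have e : adj.unit.app _ ≫ R.map h = σ :=
      (adj.homEquiv_unit _ _ h).symm.trans ((adj.homEquiv _ _).apply_symm_apply σ)
    refine (ConcreteCategory.congr_hom (congrArg (fun m => Scheme.Modules.Hom.app m V') e)
      (1 : Γ(W.toScheme, V'))).trans ?_
    refine (FinCov.homOfSection_one s₀ V').trans ?_
    exact mres_mres (G x) hW (W.ι.image_mono le_top) s
  let T' := (LocFreeHom.T (Omega.sheaf x)).obj (jO W)
  let φ : T' ⟶ Coh.structureModule X := LocFreeHom.uncurry h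
  haveI : IsIso (adj.counit.app T') := isIso_counit x W
  haveI := isIso_restrict_tau x W
  have hR : R.map φ = 0 := by
    refine AffHom.hom_ext fun V' z => ?_
    have hbij : Function.Bijective ((R.map (tau x W)).app V'.1) := ConcreteCategory.bijective_of_isIso _
    have hz : z = OX.tmulSec (Omega.sheaf x) (jO W) (img W V').1 ((R.map (tau x W)).app V'.1 z) (one W V'.1) :=
      hbij.1 (tau_tmul x W V'.1 _).symm
    rw [hz]
    show φ.app (img W V').1 (OX.tmulSec (Omega.sheaf x) (jO W) _ _ _) = 0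
    refine omega_induction x (img W V').2
      (P := fun m => φ.app (img W V').1 (OX.tmulSec (Omega.sheaf x) (jO W) _ m (one W V'.1)) = 0)
      ?_ ?_ ?_ ?_ _
    · have e := OX.tmulSec_smul_left (Omega.sheaf x) (jO W) (img W V').1 (0 : Γ(X, (img W V').1))
        (0 : Γ(Omega.sheaf x, (img W V').1)) (one W V'.1)
      erw [zero_smul, zero_smul] at e
      exact (congrArg (φ.app (img W V').1) e).trans (map_zero _)
    · intro a
      show (LocFreeHom.ev _ _).app _ (((LocFreeHom.T (Omega.sheaf x)).map h).app _ _) = 0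
      rw [WedgePair27.tMap_right_tmulSec]
      exact (congrArg (fun z => (LocFreeHom.ev (Omega.sheaf x) (Coh.structureModule X)).app (img W V').1
        (OX.tmulSec (Omega.sheaf x) (G x) (img W V').1 (OmegaSh.dSect x _ a) z)) (hh V'.1)).trans
        (hs (img W V') (img_le W V') a : _)
    · intro m m' hm hm'
      refine (congrArg (φ.app (img W V').1) (OX.tmulSec_add_left _ _ _ m m' _)).trans ?_
      exact (map_add _ _ _).trans ((congrArg₂ (· + ·) hm hm').trans (add_zero 0))
    · intro r m hm
      refine (congrArg (φ.app (img W V').1) (OX.tmulSec_smul_left _ _ _ r m _)).trans ?_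
      exact (Scheme.Modules.Hom.app_smul φ r _).trans ((congrArg (r • ·) hm).trans (smul_zero r))
  have hφ : φ = 0 := by
    rw [← cancel_epi (adj.counit.app T'), comp_zero]
    refine (adj.counit.naturality φ).symm.trans ?_
    show (CxOX.extZero W.ι).map (R.map φ) ≫ _ = 0
    rw [hR]
    haveI : (CxOX.extZero W.ι).Additive := adj.left_adjoint_additive
    rw [Functor.map_zero, zero_comp]
  have h0 : h = 0 := by
    refine LocFreeHom.hom_ext (hφ.trans ?_)
    haveI : (LocFreeHom.T (Omega.sheaf x)).Additive := inferInstance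
    rw [LocFreeHom.uncurry, Functor.map_zero, zero_comp]
  have := hh ⊤
  rw [h0] at this
  have hbij := GrothLib.InvExt.mres_bijective_of_eq (G x) (Scheme.Opens.ι_image_top W)
  exact hbij.1 (this.symm.trans (map_zero _).symm)

end Open

theorem section_ext {W : X.Opens} (s s' : Γ(G x, W))
    (h : ∀ (V : X.affineOpens) (hV : V.1 ≤ W) (a : Γ(X, V.1)),
      ev x V.1 (mres (G x) hV s) a = ev x V.1 (mres (G x) hV s') a) : s = s' := by
  refine sub_eq_zero.1 (section_eq_zero x W _ fun V hV a => ?_)
  have e := ev_add_left x V.1 (mres (G x) hV (s - s')) (mres (G x) hV s') a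
  rw [show mres (G x) hV (s - s') + mres (G x) hV s' = mres (G x) hV s by
    simp only [mres]; rw [← map_add, sub_add_cancel], h V hV a] at e
  exact right_eq_add.1 e

end GrothLib.DefSm26
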