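import Groth.Agent.Lib.DefSm26.Chart
import Groth.Agent.Lib.DefSm26.Glue

/-!
# Comparisons that agree on overlaps give an isomorphism of lifts
-/

set_option autoImplicit false
set_option maxHeartbeats 800000
set_option linter.style.haveILetI false
set_option backward.isDefEq.respectTransparency false
universe u

noncomputable section

open CategoryTheory CategoryTheory.Limits AlgebraicGeometry Opposite TopologicalSpace ArtFun ArtFun.Art IsLocalRing
open GrothLib.DefFin26 (cst ext red ext_mono isAffineOpen_ext preimage_ext surjective_i_fun)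

namespace GrothLib.DefSm26

variable {Λ : Type u} [CommRing Λ] {k : Type u} [Field k] [Algebra Λ k]
variable {X : Scheme.{u}} {x : X ⟶ Spec (CommRingCat.of k)}
variable {A B : Art Λ k} {p : B ⟶ A} {t : B} {ξ : DefSch X x A} {ι : Type u} {Uc : ι → X.Opens}
variable (hs : Small p t) {η η' : DefSch X x B} (a : GrothLib.DefGlue19.Arr p η ξ) (a' : GrothLib.DefGlue19.Arr p η' ξ)

open Glue (J ix le_ix exists_below coverT)

namespace Gl

/-- The cover of a lift. -/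
def cover (hU : ∀ z : X, ∃ i, z ∈ Uc i) : η.total.OpenCover :=
  Scheme.Cover.mkOfCovers (P := @IsOpenImmersion) (J Uc) (fun V => Spec ((sys hs a).E V.1 le_top))
    (fun V => fromSpec hs a V.1)
    (fun Q => by
      obtain ⟨P, rfl⟩ := (surjective_hom a).surj Q
      obtain ⟨z, rfl⟩ := surjective_i_fun ξ P
      obtain ⟨i, hzi⟩ := hU z
      obtain ⟨W, hW, hzW, hWi⟩ := exists_isAffineOpen_mem_and_subset hzi
      refine ⟨⟨⟨W, hW⟩, i, hWi⟩, (range_fromSpec hs a ⟨W, hW⟩).superset ?_⟩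
      exact (mem_op hs a _).2 ⟨z, hzW, rfl⟩)
    (fun _ => inferInstance)

end Gl

variable (θ : ∀ i, Mor ((Gl.sys hs a').restr (le_top : Uc i ≤ ⊤)) ((Gl.sys hs a).restr (le_top : Uc i ≤ ⊤)))

/-- The comparisons agree on the overlaps. -/
def Agree : Prop :=
  ∀ i j (V : X.affineOpens) (hi : V.1 ≤ Uc i) (hj : V.1 ≤ Uc j) (b : (Gl.sys hs a').E V le_top),
    (θ i).φ V hi hi b = (θ j).φ V hj hj b

variable {θ}

/-- Agreeing comparisons glue to a morphism of lifts. -/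
theorem exists_hom (hθ : Agree hs a a' θ) (hU : ∀ z : X, ∃ i, z ∈ Uc i) :
    ∃ h : η.total ⟶ η'.total, h ≫ η'.f = η.f ∧ a.hom ≫ h = a'.hom ∧ ∀ V : J Uc,
      Gl.fromSpec hs a V.1 ≫ h =
        Spec.map (CommRingCat.ofHom ((θ (ix V)).φ V.1 (le_ix V) (le_ix V))) ≫ Gl.fromSpec hs a' V.1 := by
  let φ : ∀ V : J Uc, (Gl.sys hs a').E V.1 le_top →+* (Gl.sys hs a).E V.1 le_top :=
    fun V => (θ (ix V)).φ V.1 (le_ix V) (le_ix V)
  let c : ∀ V : J Uc, Spec ((Gl.sys hs a).E V.1 le_top) ⟶ η'.total :=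
    fun V => Spec.map (CommRingCat.ofHom (φ V)) ≫ Gl.fromSpec hs a' V.1
  have key : ∀ (V V₄ : J Uc) (h : V₄ ≤ V),
      Spec.map (CommRingCat.ofHom ((Gl.sys hs a).res V.1 V₄.1 h le_top)) ≫ c V = c V₄ := by
    intro V V₄ h
    show _ ≫ Spec.map _ ≫ _ = Spec.map _ ≫ _
    conv_rhs => rw [← Gl.res_fromSpec hs a' V.1 V₄.1 h]
    rw [← Category.assoc, ← Category.assoc, ← Spec.map_comp, ← Spec.map_comp]
    congr 2
    ext b
    show (Gl.sys hs a).res V.1 V₄.1 h le_top (φ V b) = φ V₄ ((Gl.sys hs a').res V.1 V₄.1 h le_top b)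
    exact ((θ (ix V)).res V.1 V₄.1 h (le_ix V) (le_ix V) b).symm.trans
      (hθ (ix V) (ix V₄) V₄.1 ((show V₄.1.1 ≤ V.1.1 from h).trans (le_ix V)) (le_ix V₄) _)
  let 𝒰 := Gl.cover hs a hU
  have compat : ∀ V V' : J Uc, ∀ {S : Scheme.{u}} (u : S ⟶ Spec ((Gl.sys hs a).E V.1 le_top))
      (v : S ⟶ Spec ((Gl.sys hs a).E V'.1 le_top)), u ≫ Gl.fromSpec hs a V.1 = v ≫ Gl.fromSpec hs a V'.1 →
      u ≫ c V = v ≫ c V' := by
    intro V V' S u v huv
    refine Scheme.hom_ext_of_forall _ _ fun z => ?_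
    obtain ⟨P, hP⟩ := (Gl.surjective_hom a).surj ((u ≫ Gl.fromSpec hs a V.1) z)
    obtain ⟨V₄, hV, hV', hP₄⟩ := exists_below (ξ := ξ) V V' (P := P)
      ((Gl.mem_op hs a P).1 (hP ▸ (Gl.range_fromSpec hs a V.1).subset ⟨u z, rfl⟩))
      ((Gl.mem_op hs a P).1 (hP ▸ by rw [huv]; exact (Gl.range_fromSpec hs a V'.1).subset ⟨v z, rfl⟩))
    let O := (u ≫ Gl.fromSpec hs a V.1) ⁻¹ᵁ Gl.op hs a V₄.1.1
    refine ⟨O, show (u ≫ Gl.fromSpec hs a V.1) z ∈ Gl.op hs a V₄.1.1 from hP ▸ (Gl.mem_op hs a P).2 hP₄, ?_⟩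
    let m := IsOpenImmersion.lift (Gl.fromSpec hs a V₄.1) (O.ι ≫ u ≫ Gl.fromSpec hs a V.1) (by
      rw [Gl.range_fromSpec]
      rintro _ ⟨y, rfl⟩
      exact y.2)
    have h₁ : O.ι ≫ u = m ≫ Spec.map (CommRingCat.ofHom ((Gl.sys hs a).res V.1 V₄.1 hV le_top)) := by
      rw [← cancel_mono (Gl.fromSpec hs a V.1), Category.assoc, Category.assoc, Gl.res_fromSpec,
        IsOpenImmersion.lift_fac]
    have h₂ : O.ι ≫ v = m ≫ Spec.map (CommRingCat.ofHom ((Gl.sys hs a).res V'.1 V₄.1 hV' le_top)) := by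
      rw [← cancel_mono (Gl.fromSpec hs a V'.1), Category.assoc, Category.assoc, Gl.res_fromSpec,
        IsOpenImmersion.lift_fac, huv]
    show O.ι ≫ u ≫ c V = O.ι ≫ v ≫ c V'
    rw [reassoc_of% h₁, reassoc_of% h₂, key V V₄ hV, key V' V₄ hV']
  let h : η.total ⟶ η'.total := 𝒰.glueMorphisms c fun V V' => compat V V' _ _ pullback.condition
  have hc : ∀ V : J Uc, Gl.fromSpec hs a V.1 ≫ h = c V := fun V => 𝒰.ι_glueMorphisms _ _ V
  refine ⟨h, Scheme.Cover.hom_ext 𝒰 _ _ fun V => ?_, Scheme.Cover.hom_ext (coverT (ξ := ξ) hU) _ _ fun V => ?_, hc⟩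
  · show Gl.fromSpec hs a V.1 ≫ h ≫ η'.f = Gl.fromSpec hs a V.1 ≫ η.f
    rw [← Category.assoc, hc, Gl.s_fromSpec]
    show (Spec.map _ ≫ _) ≫ _ = _
    rw [Category.assoc, Gl.s_fromSpec, ← Spec.map_comp]
    congr 1
    ext b
    exact (θ (ix V)).s V.1 (le_ix V) (le_ix V) b
  · show (isAffineOpen_ext ξ V.1.2).fromSpec ≫ a.hom ≫ h = (isAffineOpen_ext ξ V.1.2).fromSpec ≫ a'.hom
    rw [← Category.assoc, ← Gl.π_fromSpec hs a, Category.assoc, hc, ← Gl.π_fromSpec hs a', ← Category.assoc,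
      ← Spec.map_comp]
    congr 2
    ext b
    exact (θ (ix V)).π V.1 (le_ix V) (le_ix V) b

/-- Agreeing comparisons give an isomorphism of lifts. -/
theorem nonempty_iso_of_agree (hθ : Agree hs a a' θ) (hU : ∀ z : X, ∃ i, z ∈ Uc i) : Nonempty (η.Iso η') := by
  obtain ⟨h, hf, ha, hc⟩ := exists_hom hs a a' hθ hU
  have hθ' : Agree hs a' a (fun i => (θ i).symm hs) := fun i j V hi hj b => by
    refine ((θ i).bijective hs V hi hi).1 ?_
    rw [hθ i j V hi hj ((((θ j).symm hs)).φ V hj hj b)]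
    exact ((θ i).φ_symm hs V hi hi b).trans ((θ j).φ_symm hs V hj hj b).symm
  obtain ⟨h', hf', ha', hc'⟩ := exists_hom hs a' a hθ' hU
  refine ⟨⟨⟨h, h', ?_, ?_⟩, hf, ?_⟩⟩
  · refine Scheme.Cover.hom_ext (Gl.cover hs a hU) _ _ fun V => ?_
    show Gl.fromSpec hs a V.1 ≫ h ≫ h' = Gl.fromSpec hs a V.1 ≫ 𝟙 _
    rw [← Category.assoc, hc, Category.assoc, hc', ← Category.assoc, ← Spec.map_comp, Category.comp_id]
    conv_rhs => rw [← Category.id_comp (Gl.fromSpec hs a V.1), ← Spec.map_id]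
    congr 2
    ext b
    exact (θ (ix V)).φ_symm hs V.1 (le_ix V) (le_ix V) b
  · refine Scheme.Cover.hom_ext (Gl.cover hs a' hU) _ _ fun V => ?_
    show Gl.fromSpec hs a' V.1 ≫ h' ≫ h = Gl.fromSpec hs a' V.1 ≫ 𝟙 _
    rw [← Category.assoc, hc', Category.assoc, hc, ← Category.assoc, ← Spec.map_comp, Category.comp_id]
    conv_rhs => rw [← Category.id_comp (Gl.fromSpec hs a' V.1), ← Spec.map_id]
    congr 2
    ext b
    exact ((θ (ix V)).bijective hs V.1 (le_ix V) (le_ix V)).1 ((θ (ix V)).φ_symm hs V.1 (le_ix V) (le_ix V) _)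
  · show η.i ≫ h = η'.i
    rw [← a.i_hom, Category.assoc, ha, a'.i_hom]

end GrothLib.DefSm26
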