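import Groth.Agent.Lib.DefSm26.Glue
import Groth.Agent.Lib.DefSm26.Chart
import Groth.Agent.Lib.DefSm26.DimOne
import Groth.Agent.Lib.Strat6.Noetherian
import Groth.Agent.Lib.LCI6.Syntomic
import Groth.Agent.Lib.RelGCIReg.Scheme
import Groth.Prelude.Def_RegImm

/-!
# Generically smooth local complete intersection curves are unobstructed

A cover by affine opens is chosen whose members meet only inside one dense smooth affine open `W₀`, and each
of which meets `W₀` in an affine open; local lifts are then glued through `W₀`.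
-/

set_option autoImplicit false
set_option maxHeartbeats 800000
set_option linter.style.haveILetI false
set_option backward.isDefEq.respectTransparency false
universe u

noncomputable section

open CategoryTheory CategoryTheory.Limits AlgebraicGeometry Opposite TopologicalSpace ArtFun ArtFun.Art IsLocalRing
open GrothLib.DefAut26 (str)
open GrothLib.DefFin26 (cst ext red red_str red_surjective isAffineOpen_ext exists_of_red_eq_zero)

namespace GrothLib.DefSm26

variable {Λ : Type u} [CommRing Λ] {k : Type u} [Field k] [Algebra Λ k]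
variable {X : Scheme.{u}} {x : X ⟶ Spec (CommRingCat.of k)}

variable (x) in
/-- The functions on an open form a local complete intersection algebra. -/
def LciOn (V : X.Opens) : Prop :=
  letI := (cst x V).toAlgebra
  LCI.IsLCI k Γ(X, V)

section Sys

variable {A B : Art Λ k} {p : B ⟶ A} {t : B} {ξ : DefSch X x A}

/-- Over an affine open with lci functions a system exists. -/
theorem nonempty_sys_lci (hs : Small p t) {U : X.Opens} (hU : IsAffineOpen U) (hL : LciOn x U) :
    Nonempty (Sys p t ξ U) := by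
  let E := Γ(ξ.total, ext ξ U)
  letI : Algebra k Γ(X, U) := (cst x U).toAlgebra
  letI : Algebra A E := (str ξ.f (ext ξ U)).toAlgebra
  haveI : Module.Flat A E := DefAut26.flat_str ξ.f (isAffineOpen_ext ξ hU)
  have hsq : RingHom.ker p.toAlgHom * RingHom.ker p.toAlgHom = ⊥ := by
    rw [hs.ker, Ideal.span_singleton_mul_span_singleton, Ideal.span_singleton_eq_bot]
    exact hs.max t (GrothLib.ArtFun.res_eq_zero_iff.1 hs.res_t)
  have hker : RingHom.ker (red ξ U) = (RingHom.ker A.res).map (algebraMap A E) := by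
    refine le_antisymm (fun b hb => exists_of_red_eq_zero ξ hU hb) (Ideal.map_le_iff_le_comap.2 fun a ha => ?_)
    show red ξ U (str ξ.f (ext ξ U) a) = 0
    rw [red_str, show A.res a = 0 from ha, map_zero]
  obtain ⟨E', _, _, hflat, π, hπ, hπs, hπk⟩ := GrothLib.LciDef19.exists_lift_algebra
    hL p hs.surj hsq E (red ξ U) (red_surjective ξ hU) hker (fun a => red_str ξ U a)
  haveI : Flat (Spec.map (CommRingCat.ofHom (algebraMap B E'))) :=
    (HasRingHomProperty.Spec_iff (P := @Flat)).2 (RingHom.flat_algebraMap_iff.2 hflat)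
  refine exists_sys_of_chart (f := Spec.map (CommRingCat.ofHom (algebraMap B E')))
    (j := (isAffineOpen_ext ξ hU).fromSpec) (g := Spec.map (CommRingCat.ofHom π)) hs.surj ?_
    (isAffineOpen_ext ξ hU).opensRange_fromSpec.ge hs.ker
  rw [DefAut26.fromSpec_comp]
  refine (GrothLib.FSchSys.isPullback_spec_iff (CommRingCat.ofHom (algebraMap B E'))
    (CommRingCat.ofHom (str ξ.f (ext ξ U))) (CommRingCat.ofHom p.toAlgHom.toRingHom) (CommRingCat.ofHom π)
    hs.surj hπ ?_).2 hπk.symm
  ext b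
  exact hπs b

theorem Mor.symm_φ (hs : Small p t) {U U' : X.Opens} {L : Sys p t ξ U} {L' : Sys p t ξ U'} (m : Mor L L')
    (V : X.affineOpens) (hV : V.1 ≤ U) (hV' : V.1 ≤ U') (b : L.E V hV) :
    (m.symm hs).φ V hV' hV (m.φ V hV hV' b) = b :=
  (RingEquiv.ofBijective _ (m.bijective hs V hV hV')).symm_apply_apply b

variable {ι : Type u} {Uc : ι → X.Opens} {W₀ : X.Opens}

open Classical in
/-- Systems glue through an open containing all overlaps. -/
theorem exists_cocycle_star (hs : Small p t) (L : ∀ i, Sys p t ξ (Uc i)) (L₀ : Sys p t ξ W₀)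
    (hmeet : ∀ i j, i ≠ j → Uc i ⊓ Uc j ≤ W₀) (m : ∀ i, Mor (L i) L₀) :
    ∃ θ : ∀ i j, Mor (L i) (L j), IsCocycle L θ := by
  have hex : ∀ i j, ∃ θ : Mor (L i) (L j),
      (∀ (V : X.affineOpens) (hi : V.1 ≤ Uc i) (hj : V.1 ≤ Uc j) (h₀ : V.1 ≤ W₀) (b : (L i).E V hi),
        (m j).φ V hj h₀ (θ.φ V hi hj b) = (m i).φ V hi h₀ b) ∧
      (∀ (e : i = j) (V : X.affineOpens) (hi : V.1 ≤ Uc i) (hj : V.1 ≤ Uc j) (b : (L i).E V hi),
        HEq (θ.φ V hi hj b) b) := by
    intro i j
    by_cases hij : i = j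
    · subst hij
      exact ⟨{ φ := fun V hV _ => RingHom.id _
               res := fun V V' h hV hV' b => rfl
               π := fun V hV hV' b => rfl
               s := fun V hV hV' b => rfl }, fun V hi hj h₀ b => rfl, fun _ V hi hj b => HEq.rfl⟩
    · have h : ∀ (V : X.affineOpens), V.1 ≤ Uc i → V.1 ≤ Uc j → V.1 ≤ W₀ :=
        fun V hi hj => (le_inf hi hj).trans (hmeet i j hij)
      refine ⟨{ φ := fun V hi hj => (((m j).symm hs).φ V (h V hi hj) hj).comp ((m i).φ V hi (h V hi hj))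
                res := fun V V' hle hi hj b =>
                  (congrArg (((m j).symm hs).φ V' (hle.trans (h V hi hj)) (hle.trans hj))
                    ((m i).res V V' hle hi (h V hi hj) b)).trans (((m j).symm hs).res V V' hle (h V hi hj) hj _)
                π := fun V hi hj b => (((m j).symm hs).π V (h V hi hj) hj _).trans ((m i).π V hi (h V hi hj) b)
                s := fun V hi hj b => (congrArg (((m j).symm hs).φ V (h V hi hj) hj)
                  ((m i).s V hi (h V hi hj) b)).trans (((m j).symm hs).s V (h V hi hj) hj b) },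
        fun V hi hj h₀ b => (m j).φ_symm hs V hj h₀ _, fun e => absurd e hij⟩
  choose θ hθ hθ' using hex
  refine ⟨θ, fun i j l V hi hj hl b => ?_⟩
  by_cases h₀ : V.1 ≤ W₀
  · refine ((m l).bijective hs V hl h₀).1 ?_
    rw [hθ j l V hj hl h₀, hθ i j V hi hj h₀, hθ i l V hi hl h₀]
  · have hij : i = j := by_contra fun h => h₀ ((le_inf hi hj).trans (hmeet i j h))
    have hjl : j = l := by_contra fun h => h₀ ((le_inf hj hl).trans (hmeet j l h))
    subst hij hjl
    exact eq_of_heq ((hθ' i i rfl V hj hl _).trans HEq.rfl)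

/-- Lifts along a small extension exist for a cover of this shape. -/
theorem surjective_map_of_star (hU : ∀ z : X, ∃ i, z ∈ Uc i) (haff : ∀ i, IsAffineOpen (Uc i))
    (hlci : ∀ i, LciOn x (Uc i)) (haff₀ : IsAffineOpen W₀) (hlci₀ : LciOn x W₀)
    (hmeet : ∀ i j, i ≠ j → Uc i ⊓ Uc j ≤ W₀) (hedge : ∀ i, IsAffineOpen (Uc i ⊓ W₀))
    (hsm : ∀ i, (cst x (Uc i ⊓ W₀)).Smooth) (hs : Small p t) :
    Function.Surjective ((defFunctor (Λ := Λ) X x).map p) := by
  intro q
  induction q using Quotient.inductionOn with | h ξ => ?_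
  let L := fun i => (nonempty_sys_lci (ξ := ξ) hs (haff i) (hlci i)).some
  let L₀ := (nonempty_sys_lci (ξ := ξ) hs haff₀ hlci₀).some
  let m := fun i => (nonempty_mor hs (L i) L₀ (hedge i) (hsm i)).some
  obtain ⟨θ, hθ⟩ := exists_cocycle_star hs L L₀ hmeet m
  obtain ⟨ζ, hζ⟩ := Glue.exists_lift hθ hs hU
  exact ⟨ζ.cl, hζ⟩

end Sys

/-! ### The cover -/

theorem smooth_cst_of_le {U W : X.Opens} (hU : Smooth (U.ι ≫ x)) (hW : IsAffineOpen W) (hWU : W ≤ U) :
    (cst x W).Smooth := by
  haveI := hU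
  haveI : Smooth (W.ι ≫ x) := by
    rw [← Scheme.homOfLE_ι X hWU, Category.assoc]
    infer_instance
  have h : Smooth (Spec.map (CommRingCat.ofHom (str x W))) := by
    rw [← DefAut26.fromSpec_comp x hW, ← hW.isoSpec_inv_ι, Category.assoc]
    infer_instance
  exact (HasRingHomProperty.Spec_iff (P := @Smooth)).1 h

theorem lciOn_of_smooth {W : X.Opens} (h : (cst x W).Smooth) : LciOn x W := by
  letI : Algebra k Γ(X, W) := (cst x W).toAlgebra
  haveI : Algebra.Smooth k Γ(X, W) := RingHom.smooth_algebraMap.1 h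
  exact GrothLib.LCI6.isLCI_of_smooth k Γ(X, W)

theorem lciOn_basicOpen {U : X.Opens} (hU : IsAffineOpen U) (h : LciOn x U) (g : Γ(X, U)) :
    LciOn x (X.basicOpen g) := by
  letI : Algebra k Γ(X, U) := (cst x U).toAlgebra
  letI : Algebra k Γ(X, X.basicOpen g) := (cst x (X.basicOpen g)).toAlgebra
  haveI := hU.isLocalization_basicOpen g
  haveI : IsScalarTower k Γ(X, U) Γ(X, X.basicOpen g) := IsScalarTower.of_algebraMap_eq fun c =>
    (DefAut26.map_str x (X.basicOpen_le g) c).symm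
  exact GrothLib.LCI6.isLCI_comp h (GrothLib.LCI6.isLCI_away g _)

theorem exists_lciOn_nhd {q : X} (h : Synt.IsSyntomicAt x q) :
    ∃ U : X.Opens, IsAffineOpen U ∧ q ∈ U ∧ LciOn x U := by
  obtain ⟨⟨U, hU⟩, ⟨V, hV⟩, e, hq, hl⟩ := h
  have hV' : V = ⊤ := by
    ext y
    exact ⟨fun _ => trivial, fun _ => Subsingleton.elim (α := PrimeSpectrum k) (x q) y ▸ e hq⟩
  subst hV'
  refine ⟨U, hU, hq, ?_⟩
  letI : Algebra k Γ(X, U) := (cst x U).toAlgebra
  letI := ((Scheme.ΓSpecIso (CommRingCat.of k)).inv).hom.toAlgebra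
  letI := (x.appLE ⊤ U e).hom.toAlgebra
  haveI : IsScalarTower k Γ(Spec (CommRingCat.of k), ⊤) Γ(X, U) := IsScalarTower.of_algebraMap_eq' rfl
  exact LCI6.isLCI_comp (Cc := Γ(Spec (CommRingCat.of k), ⊤))
    (LCI6.isSyntomic_iff.mp (RelGCIReg.syntHom_of_bijective _
      (ConcreteCategory.bijective_of_isIso (Scheme.ΓSpecIso (CommRingCat.of k)).inv))).2
    (LCI6.isSyntomic_iff.mp hl).2

/-- A function vanishing at a closed point outside a dense open, not vanishing at the generic points. -/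
theorem exists_punctured_basicOpen [IsNoetherian X] (hdim : topologicalKrullDim X ≤ 1) {W₀ : X.Opens}
    (hW₀ : Dense (W₀ : Set X)) {V : X.Opens} (hV : IsAffineOpen V) {q : X} (hq : q ∈ V) (hqW : q ∉ W₀)
    (hqc : IsClosed ({q} : Set X)) (honly : ∀ z ∈ V, z ∉ W₀ → z = q) :
    ∃ t : Γ(X, V), q ∈ X.basicOpen t ∧ IsAffineOpen (X.basicOpen t ⊓ W₀) := by
  classical
  haveI : IsLocallyNoetherian V.toScheme := isLocallyNoetherian_of_isOpenImmersion V.ι
  haveI : CompactSpace V := isCompact_iff_compactSpace.1 hV.isCompact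
  haveI : IsNoetherian V.toScheme := ⟨⟩
  let q' : V.toScheme := ⟨q, hq⟩
  have hfin : (irreducibleComponents (V.toScheme : Type u)).Finite := NoetherianSpace.finite_irreducibleComponents
  have hgfin : (genericPoints (V.toScheme : Type u)).Finite := genericPoints.finite hfin
  have hqcl : IsClosed ({q'} : Set V.toScheme) := by
    rw [show ({q'} : Set V.toScheme) = (Subtype.val : V → X) ⁻¹' {q} from
      Set.ext fun z => ⟨fun h => congrArg Subtype.val (show z = q' from h), fun h => Subtype.ext h⟩]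
    exact hqc.preimage continuous_subtype_val
  have hqg : q' ∉ genericPoints (V.toScheme : Type u) := by
    intro hg
    have hC : ({q'} : Set V.toScheme) ∈ irreducibleComponents (V.toScheme : Type u) := by
      have : closure ({q'} : Set V.toScheme) ∈ irreducibleComponents (V.toScheme : Type u) := hg
      rwa [hqcl.closure_eq] at this
    obtain ⟨o, ho, ⟨z, hz⟩, hoq⟩ :=
      NoetherianSpace.exists_isOpen_nonempty_subset_irreducibleComponent _ hC
    have hd : Dense ((V.ι ⁻¹ᵁ W₀ : V.toScheme.Opens) : Set V.toScheme) :=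
      hW₀.preimage V.ι.isOpenEmbedding.isOpenMap
    obtain ⟨w, hw, hwW⟩ := hd.inter_open_nonempty o ho ⟨z, hz⟩
    have hwq : w = q' := hoq hw
    subst hwq
    exact hqW hwW
  let P := (hV.primeIdealOf ⟨q, hq⟩).asIdeal
  let Pf : V.toScheme → Ideal Γ(X, V) := fun z => (hV.primeIdealOf ⟨z.1, z.2⟩).asIdeal
  have hnot : ¬ ((P : Set Γ(X, V)) ⊆ ⋃ z ∈ (↑hgfin.toFinset : Set V.toScheme), (Pf z : Set Γ(X, V))) := by
    intro hsub
    obtain ⟨z, hz, hle⟩ := (Ideal.subset_union_prime (f := Pf) q' q'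
      fun z _ _ _ => (hV.primeIdealOf ⟨z.1, z.2⟩).isPrime).1 hsub
    rw [Set.Finite.mem_toFinset] at hz
    have hzq : z.1 = q := by
      have hsp : (⟨q, hq⟩ : V) ⤳ ⟨z.1, z.2⟩ := by
        rw [← hV.isoSpec.hom.isOpenEmbedding.isInducing.specializes_iff]
        exact (PrimeSpectrum.le_iff_specializes _ _).1 hle
      have : z ∈ closure ({q'} : Set V.toScheme) := specializes_iff_mem_closure.1 hsp
      rw [hqcl.closure_eq] at this
      exact congrArg Subtype.val (show z = q' from this)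
    exact hqg ((show z = q' from Subtype.ext hzq) ▸ hz)
  obtain ⟨g, hgP, hg⟩ := Set.not_subset.1 hnot
  have hgq : q ∉ X.basicOpen g := fun h => (GrothLib.LCI6.mem_basicOpen_iff_notMem hV hq g).1 h hgP
  let D : V.toScheme.Opens := V.ι ⁻¹ᵁ X.basicOpen g
  have hD : Dense (D : Set V.toScheme) := by
    refine Dense.mono (s₁ := genericPoints (V.toScheme : Type u)) (fun z hz => ?_) ?_
    · refine (GrothLib.LCI6.mem_basicOpen_iff_notMem hV z.2 g).2 fun hzg => hg ?_
      exact Set.mem_iUnion₂.2 ⟨z, hgfin.mem_toFinset.2 hz, hzg⟩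
    · exact dense_iff_closure_eq.2 genericPoints.closure
  obtain ⟨hZfin, hZcl⟩ := finite_compl_of_dense
    ((V.ι.isOpenEmbedding.isInducing.topologicalKrullDim_le).trans hdim) hD
  let S : Set V.toScheme := (D : Set V.toScheme)ᶜ \ {q'}
  have hS : IsClosed S := by
    rw [← Set.biUnion_of_singleton S]
    exact (hZfin.subset Set.diff_subset).isClosed_biUnion fun z hz => hZcl z hz.1
  let O : X.Opens := V.ι ''ᵁ ⟨Sᶜ, hS.isOpen_compl⟩
  have hqO : q ∈ O := ⟨q', fun h => h.2 rfl, rfl⟩
  obtain ⟨t, htO, hqt⟩ := hV.exists_basicOpen_le ⟨q, hqO⟩ hq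
  refine ⟨t, hqt, ?_⟩
  have heq : X.basicOpen t ⊓ W₀ = X.basicOpen (g * t) := by
    rw [X.basicOpen_mul]
    refine Opens.ext (Set.ext fun z => ⟨fun hz => ⟨?_, hz.1⟩, fun hz => ⟨hz.2, ?_⟩⟩)
    · by_contra hzg
      obtain ⟨z', hz', rfl⟩ := htO hz.1
      refine hz' ⟨hzg, fun h => hqW ?_⟩
      rw [show q = V.ι z' from congrArg Subtype.val (show q' = z' from (show z' = q' from h).symm)]
      exact hz.2
    · by_contra hzW
      exact hgq ((honly z (X.basicOpen_le g hz.1) hzW) ▸ hz.1)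
  rw [heq]
  exact hV.basicOpen _

/-- The cover. -/
theorem exists_star_cover [LocallyOfFiniteType x] [QuasiCompact x] (hdim : topologicalKrullDim X ≤ 1)
    (hlci : ∀ p : X, Synt.IsSyntomicAt x p) {U : X.Opens} (hUd : Dense (U : Set X)) (hsm : Smooth (U.ι ≫ x)) :
    ∃ (ι : Type u) (Uc : ι → X.Opens) (W₀ : X.Opens), (∀ z : X, ∃ i, z ∈ Uc i) ∧ (∀ i, IsAffineOpen (Uc i)) ∧
      (∀ i, LciOn x (Uc i)) ∧ IsAffineOpen W₀ ∧ LciOn x W₀ ∧ (∀ i j, i ≠ j → Uc i ⊓ Uc j ≤ W₀) ∧
      (∀ i, IsAffineOpen (Uc i ⊓ W₀)) ∧ ∀ i, (cst x (Uc i ⊓ W₀)).Smooth := by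
  classical
  haveI := LocallyOfFiniteType.isLocallyNoetherian x
  haveI : CompactSpace X := QuasiCompact.compactSpace_of_compactSpace x
  haveI : IsNoetherian X := ⟨⟩
  haveI : IsLocallyNoetherian U.toScheme := isLocallyNoetherian_of_isOpenImmersion U.ι
  haveI : CompactSpace U := isCompact_iff_compactSpace.1 (NoetherianSpace.isCompact (U : Set X))
  haveI : IsNoetherian U.toScheme := ⟨⟩
  obtain ⟨V₀, hV₀, -, hgen⟩ := GrothLib.Strat6.exists_dense_affine_isAffineHom U.toScheme
  let W₀ : X.Opens := U.ι ''ᵁ V₀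
  have hW₀ : IsAffineOpen W₀ := hV₀.image_of_isOpenImmersion U.ι
  have hW₀U : W₀ ≤ U := by
    rintro _ ⟨z, -, rfl⟩
    exact z.2
  have hd₀ : Dense (W₀ : Set X) := by
    refine DenseRange.dense_image ?_ U.ι.continuous (Dense.mono hgen (dense_iff_closure_eq.2 genericPoints.closure))
    show Dense (Set.range U.ι)
    rw [Scheme.Opens.range_ι]
    exact hUd
  obtain ⟨hQfin, hQcl⟩ := finite_compl_of_dense hdim hd₀
  have key : ∀ q : ((W₀ : Set X)ᶜ : Set X), ∃ V : X.Opens, IsAffineOpen V ∧ q.1 ∈ V ∧ LciOn x V ∧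
      IsAffineOpen (V ⊓ W₀) ∧ ∀ z ∈ V, z ∉ W₀ → z = q.1 := by
    intro q
    obtain ⟨U₁, hU₁, hqU₁, hL₁⟩ := exists_lciOn_nhd (hlci q.1)
    let S : Set X := (W₀ : Set X)ᶜ \ {q.1}
    have hS : IsClosed S := by
      rw [← Set.biUnion_of_singleton S]
      exact (hQfin.subset Set.diff_subset).isClosed_biUnion fun z hz => hQcl z hz.1
    obtain ⟨r, hr, hqr⟩ := hU₁.exists_basicOpen_le (V := ⟨Sᶜ, hS.isOpen_compl⟩) ⟨q.1, fun h => h.2 rfl⟩ hqU₁
    have honly : ∀ z ∈ X.basicOpen r, z ∉ W₀ → z = q.1 := fun z hz hzW =>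
      by_contra fun h => hr hz ⟨hzW, h⟩
    obtain ⟨t, hqt, haff⟩ := exists_punctured_basicOpen hdim hd₀ (hU₁.basicOpen r) hqr q.2
      (hQcl q.1 q.2) honly
    exact ⟨X.basicOpen t, (hU₁.basicOpen r).basicOpen t, hqt,
      lciOn_basicOpen (hU₁.basicOpen r) (lciOn_basicOpen hU₁ hL₁ r) t, haff,
      fun z hz => honly z (X.basicOpen_le t hz)⟩
  choose V hV hqV hLV hedge honly using key
  let Uc : Option ((W₀ : Set X)ᶜ : Set X) → X.Opens := fun o => o.elim W₀ V
  have hedge' : ∀ o, IsAffineOpen (Uc o ⊓ W₀) := fun o => match o with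
    | none => by rw [show Uc none ⊓ W₀ = W₀ from inf_idem W₀]; exact hW₀
    | some q => hedge q
  refine ⟨_, Uc, W₀, fun z => ?_, fun o => ?_, fun o => ?_, hW₀, lciOn_of_smooth (smooth_cst_of_le hsm hW₀ hW₀U),
    fun i j hij => ?_, hedge', fun o => smooth_cst_of_le hsm (hedge' o) (inf_le_right.trans hW₀U)⟩
  · by_cases hz : z ∈ W₀
    · exact ⟨none, hz⟩
    · exact ⟨some ⟨z, hz⟩, hqV ⟨z, hz⟩⟩
  · cases o with
    | none => exact hW₀
    | some q => exact hV q
  · cases o with
    | none => exact lciOn_of_smooth (smooth_cst_of_le hsm hW₀ hW₀U)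
    | some q => exact hLV q
  · cases i with
    | none => exact inf_le_left
    | some q =>
      cases j with
      | none => exact inf_le_right
      | some r =>
        intro z hz
        by_contra hzW
        exact hij (congrArg some (Subtype.ext ((honly q z hz.1 hzW).symm.trans (honly r z hz.2 hzW))))

/-- **Generically smooth lci curves are unobstructed.** -/
theorem isSmoothFunctor_of_lci_curve [LocallyOfFiniteType x] [QuasiCompact x] (hdim : topologicalKrullDim X ≤ 1)
    (hlci : ∀ p : X, Synt.IsSyntomicAt x p) (hsm : ∃ U : X.Opens, Dense (U : Set X) ∧ Smooth (U.ι ≫ x)) :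
    IsSmoothFunctor (defFunctor (Λ := Λ) X x) := by
  obtain ⟨U, hUd, hUs⟩ := hsm
  obtain ⟨ι, Uc, W₀, hU, haff, hL, haff₀, hL₀, hmeet, hedge, hsme⟩ := exists_star_cover hdim hlci hUd hUs
  intro B A μ hμ
  refine GrothLib.ArtFun.surj_induction (fun A B f => Function.Surjective
    ((defFunctor (Λ := Λ) X x).map f)) ?_ ?_ ?_ μ hμ
  · intro A B e he
    exact ((isIso_iff_bijective _).1 inferInstance).2
  · intro A B p hp
    obtain ⟨t, hker, ht0, htm, -⟩ := GrothLib.ArtFun.smallExt_exists_gen hp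
    exact surjective_map_of_star hU haff hL haff₀ hL₀ hmeet hedge hsme ⟨hp.1, hker, ht0, htm⟩
  · intro A B C p q _ _ hp hq
    rw [Functor.map_comp]
    exact hq.comp hp

end GrothLib.DefSm26
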