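import Groth.Agent.Lib.DefSm26.Hom
import Groth.Agent.Lib.DefSm26.CechOne
import Groth.Agent.Lib.DefSm26.Main

/-!
# Lifts along small extensions are unique when one-cocycles are coboundaries
-/

set_option autoImplicit false
set_option maxHeartbeats 800000
set_option linter.style.haveILetI false
set_option backward.isDefEq.respectTransparency false
universe u

noncomputable section

open CategoryTheory CategoryTheory.Limits AlgebraicGeometry Opposite TopologicalSpace ArtFun ArtFun.Art IsLocalRing

namespace GrothLib.DefSm26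

variable {Λ : Type u} [CommRing Λ] {k : Type u} [Field k] [Algebra Λ k]
variable {X : Scheme.{u}} {x : X ⟶ Spec (CommRingCat.of k)}

/-- Negation of a family of derivations, restricted. -/
def Fld.negRestr {W W' : X.Opens} (E : Fld x W) (h : W' ≤ W) : Fld x W' where
  D V hV a := -E.D V (hV.trans h) a
  add V hV a a' := by simp only [E.add, neg_add]
  mul V hV a a' := by simp only [E.mul]; ring
  cst_eq_zero V hV r := by simp only [E.cst_eq_zero, neg_zero]
  res V V' hle hV a := (map_neg _ _).trans (congrArg Neg.neg (E.res V V' hle (hV.trans h) a))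

/-- Two lifts of one deformation along a small extension are isomorphic. -/
theorem nonempty_iso_of_cech [Smooth x] {ι : Type u} {Uc : ι → X.Opens}
    (hU : ∀ z : X, ∃ i, z ∈ Uc i) (haff : ∀ i, IsAffineOpen (Uc i)) (hC : CechOne x Uc)
    {A B : Art Λ k} {p : B ⟶ A} {t : B} (hs : Small p t) {ξ : DefSch X x A} {η η' : DefSch X x B}
    (a : GrothLib.DefGlue19.Arr p η ξ) (a' : GrothLib.DefGlue19.Arr p η' ξ) : Nonempty (η.Iso η') := by
  let L := Gl.sys hs a
  let L' := Gl.sys hs a'
  let θ := fun i => (nonempty_mor hs (L'.restr (le_top : Uc i ≤ ⊤)) (L.restr (le_top : Uc i ≤ ⊤))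
    (by rw [inf_idem]; exact haff i) (cst_smooth (by rw [inf_idem]; exact haff i))).some
  let φ : ∀ (i : ι) (V : X.affineOpens), V.1 ≤ Uc i → (L'.E V le_top →+* L.E V le_top) :=
    fun i V h => (θ i).φ V h h
  have hd : ∀ i j, ∃ E : Fld x (U2 Uc i j), ∀ (V : X.affineOpens) (hi : V.1 ≤ Uc i) (hj : V.1 ≤ Uc j)
      (b : L'.E V le_top),
      φ j V hj b = φ i V hi b + L.tm V le_top (E.D V (le_inf hi hj) (L'.ρ V le_top b)) := by
    intro i j
    obtain ⟨E, hE⟩ := exists_diff hs (L'.restr (le_top : Uc i ≤ ⊤)) (L.restr (le_top : Uc i ≤ ⊤))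
      (W := U2 Uc i j) inf_le_left inf_le_left
      (fun V hV => (θ i).φ V (hV.trans inf_le_left) (hV.trans inf_le_left))
      (fun V hV => (θ j).φ V (hV.trans inf_le_right) (hV.trans inf_le_right))
      (fun V V' h hV b => (θ i).res V V' h _ _ b)
      (fun V V' h hV b => (θ j).res V V' h (hV.trans inf_le_right) (hV.trans inf_le_right) b)
      (fun V hV b => (θ i).π V _ _ b)
      (fun V hV b => (θ j).π V (hV.trans inf_le_right) (hV.trans inf_le_right) b)
      (fun V hV b => (θ i).s V _ _ b)
      (fun V hV b => (θ j).s V (hV.trans inf_le_right) (hV.trans inf_le_right) b)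
    exact ⟨E, fun V hi hj b => hE V (le_inf hi hj) b⟩
  choose c hc using hd
  obtain ⟨e, he⟩ := hC c fun i j l V hi hj hl r => by
    obtain ⟨b, rfl⟩ := L'.ρ_surj V le_top r
    refine L.tm_inj hs V le_top ?_
    rw [L.tm_add hs, L.tm_sub hs, L.tm_zero hs]
    linear_combination hc i l V hi hl b - hc j l V hj hl b - hc i j V hi hj b
  choose ψ hψ using fun i => exists_twist hs (θ i) ((e i).negRestr (inf_le_left : Uc i ⊓ Uc i ≤ Uc i))
  refine nonempty_iso_of_agree hs a a' (θ := ψ) ?_ hU
  intro i j V hi hj b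
  rw [hψ, hψ]
  show φ i V hi b + L.tm V le_top (-(e i).D V hi (L'.ρ V le_top b)) =
    φ j V hj b + L.tm V le_top (-(e j).D V hj (L'.ρ V le_top b))
  rw [hc i j V hi hj b]
  rw [he i j V hi hj, L.tm_sub hs, L.tm_neg hs, L.tm_neg hs]
  abel

/-- Deformations of a smooth scheme are trivial when one-cocycles are coboundaries. -/
theorem subsingleton_defFunctor [Smooth x] {ι : Type u} {Uc : ι → X.Opens}
    (hU : ∀ z : X, ∃ i, z ∈ Uc i) (haff : ∀ i, IsAffineOpen (Uc i)) (hC : CechOne x Uc) (B : Art Λ k) :
    Subsingleton ((defFunctor (Λ := Λ) X x).obj B) := by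
  have h : Function.Injective ((defFunctor (Λ := Λ) X x).map (toBase B)) := by
    refine GrothLib.ArtFun.surj_induction (fun A B f => Function.Injective
      ((defFunctor (Λ := Λ) X x).map f)) ?_ ?_ ?_ (toBase B) B.res_surjective
    · intro A B e he
      exact ((isIso_iff_bijective _).1 inferInstance).1
    · intro A B p hp u v huv
      induction u using Quotient.inductionOn with | h η => ?_
      induction v using Quotient.inductionOn with | h η' => ?_
      obtain ⟨t, hker, ht0, htm, -⟩ := GrothLib.ArtFun.smallExt_exists_gen hp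
      obtain ⟨a'⟩ := GrothLib.DefGlue19.arr_of_eq (ξ := η') (η := η.baseChange p) huv.symm
      obtain ⟨i⟩ := nonempty_iso_of_cech hU haff hC ⟨hp.1, hker, ht0, htm⟩
        (GrothLib.DefGlue19.Arr.baseChange η p) a'
      exact Quotient.sound ⟨i⟩
    · intro A B C p q _ _ hp hq
      rw [Functor.map_comp]
      exact hq.comp hp
  exact ⟨fun u v => h ((GrothLib.DefGlue19.h0_defFunctor X x).2.elim _ _)⟩

end GrothLib.DefSm26
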