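import Groth.Agent.Lib.DefSm26.Twist
import Groth.Agent.Lib.DefSm26.Unique

/-!
# Rigidity and `Ext¹(Ω, O)`
-/

set_option autoImplicit false
set_option maxHeartbeats 800000
set_option linter.style.haveILetI false
set_option backward.isDefEq.respectTransparency false
universe u

noncomputable section

open CategoryTheory CategoryTheory.Limits AlgebraicGeometry Opposite TopologicalSpace ArtFun ArtFun.Art IsLocalRing

namespace GrothLib.DefSm26

variable {k : Type u} [Field k] {X : Scheme.{u}} {x : X ⟶ Spec (CommRingCat.of k)}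

theorem small_dual : Small (toBase (dual k k)) (DualNumber.eps : DualNumber k) := by
  have key : ∀ a : DualNumber k, a * DualNumber.eps = TrivSqZeroExt.inr (TrivSqZeroExt.fst a) := fun a => by
    ext <;> simp
  refine ⟨(dual k k).res_surjective, ?_, ?_, fun a ha => ?_⟩
  · refine SetLike.ext fun (a : DualNumber k) => ?_
    rw [RingHom.mem_ker]
    refine Iff.trans ?_ Ideal.mem_span_singleton'.symm
    show TrivSqZeroExt.fst a = 0 ↔ ∃ c : DualNumber k, c * DualNumber.eps = a
    refine ⟨fun h => ⟨TrivSqZeroExt.inl (TrivSqZeroExt.snd a), ?_⟩, ?_⟩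
    · rw [key]
      ext <;> simp [h]
    · rintro ⟨c, rfl⟩
      rw [key]
      simp
  · intro h
    have : TrivSqZeroExt.snd (DualNumber.eps : DualNumber k) = TrivSqZeroExt.snd (0 : DualNumber k) := congrArg _ h
    simp at this
  · have h0 : (dual k k).res a = 0 := GrothLib.ArtFun.res_eq_zero_iff.2 ha
    have h' : TrivSqZeroExt.fst (show DualNumber k from a) = 0 := h0
    refine (key a).trans ?_
    rw [h', TrivSqZeroExt.inr_zero]

/-- If the first order deformations are trivial, one-cocycles are coboundaries. -/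
theorem cechOne_of_subsingleton {ι : Type u} {Uc : ι → X.Opens} (hU : ∀ z : X, ∃ i, z ∈ Uc i)
    (h : Subsingleton ((defFunctor (Λ := k) X x).obj (dual k k))) : CechOne x Uc := by
  intro c hc
  have hx : Flat x := GrothLib.DefGlue19.flat_specPt x
  let η : DefSch X x (dual k k) := DefSch.trivial X x hx (dual k k)
  let ξ : DefSch X x (Art.base k k) := DefSch.self X x hx
  obtain ⟨b⟩ := GrothLib.DefGlue19.arr_of_eq (g := toBase (dual k k)) (ξ := η) (η := ξ)
    ((GrothLib.DefGlue19.h0_defFunctor X x).2.elim _ _)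
  obtain ⟨θ, hθ, hco⟩ := exists_isTwist small_dual b c hc
  obtain ⟨ζ, a, ch, hf, htr, hg⟩ := Glue.exists_lift' hco small_dual hU
  obtain ⟨e⟩ : Nonempty (ζ.Iso η) := Quotient.exact (h.elim ζ.cl η.cl)
  obtain ⟨d, hd⟩ := exists_coboundary small_dual b hθ hco a ch hf htr hg e.iso.hom e.hom_f (by
    have h1 : a.hom = ζ.i := (Category.id_comp a.hom).symm.trans a.i_hom
    have h2 : b.hom = η.i := (Category.id_comp b.hom).symm.trans b.i_hom
    rw [h1, h2]
    exact e.i_hom)
  exact ⟨d, hd⟩

end GrothLib.DefSm26
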