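import Groth.Agent.Lib.DefSm26.Chart
import Groth.Agent.Lib.DefSm26.CechOne
import Groth.Agent.Lib.DefFin26.Linear

/-!
# Local algebra sections of the reduction of a deformation, and their differences
-/

set_option autoImplicit false
set_option maxHeartbeats 800000
set_option linter.style.haveILetI false
set_option backward.isDefEq.respectTransparency false
universe u

noncomputable section

open CategoryTheory CategoryTheory.Limits AlgebraicGeometry Opposite TopologicalSpace ArtFun ArtFun.Art IsLocalRing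
open GrothLib.Ample (res res_res res_self)
open GrothLib.DefAut26 (str map_str)
open GrothLib.DefFin26 (cst ext red red_res red_str red_surjective isAffineOpen_ext ext_mono exists_of_red_eq_zero
  Over' res_str D₁ eps setup_eps app_eq_zero_iff)
open GrothLib.InvExt (mres mres_mres mres_smul fres)

namespace GrothLib.DefSm26

variable {k : Type u} [Field k] {X : Scheme.{u}} {x : X ⟶ Spec (CommRingCat.of k)} {ι : Type u} {U : ι → X.Opens}
variable {A B : Art k k}

variable (U) in
/-- Compatible algebra sections of the reduction, below the members of a family of opens. -/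
structure Secs (η : DefSch X x A) : Type u where
  σ : ∀ i (V : X.affineOpens), V.1 ≤ U i → (Γ(X, V.1) →+* Γ(η.total, ext η V.1))
  red_σ : ∀ i V hV a, red η V.1 (σ i V hV a) = a
  nat : ∀ i (V V' : X.affineOpens) (h : V'.1 ≤ V.1) (hV : V.1 ≤ U i) a,
    σ i V' (h.trans hV) (Ample.res h a) = Ample.res (ext_mono η h) (σ i V hV a)
  σ_cst : ∀ i V hV c, σ i V hV (cst x V.1 c) = str η.f (ext η V.1) (algebraMap k A c)

theorem isNilpotent_ker_red (η : DefSch X x A) {V : X.Opens} (hV : IsAffineOpen V) :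
    IsNilpotent (RingHom.ker (red η V)) := by
  obtain ⟨n, hn⟩ := GrothLib.ArtFun.exists_pow_maximalIdeal_eq_bot A
  refine ⟨n, le_bot_iff.1 ?_⟩
  refine (Ideal.pow_right_mono (fun b hb => exists_of_red_eq_zero η hV hb) n).trans ?_
  rw [← Ideal.map_pow, show RingHom.ker A.res.toRingHom = maximalIdeal A from GrothLib.LciDef19.ker_res_eq A, hn,
    Ideal.map_bot]

theorem red_algebraMap (η : DefSch X x A) (V : X.Opens) (c : k) :
    red η V (str η.f (ext η V) (algebraMap k A c)) = cst x V c := by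
  rw [red_str, A.res.commutes, Algebra.algebraMap_self_apply]

/-- Sections exist on affine opens with smooth fibre. -/
theorem nonempty_secs [Smooth x] (haff : ∀ i, IsAffineOpen (U i)) (η : DefSch X x A) : Nonempty (Secs U η) := by
  have h0 : ∀ i, ∃ φ : Γ(X, U i) →+* Γ(η.total, ext η (U i)), (∀ a, red η (U i) (φ a) = a) ∧
      ∀ c, φ (cst x (U i) c) = str η.f (ext η (U i)) (algebraMap k A c) := by
    intro i
    letI : Algebra k Γ(X, U i) := (cst x (U i)).toAlgebra
    letI : Algebra k Γ(η.total, ext η (U i)) := ((str η.f (ext η (U i))).comp (algebraMap k A)).toAlgebra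
    haveI : Algebra.Smooth k Γ(X, U i) := RingHom.smooth_algebraMap.1 (cst_smooth (haff i))
    let g : Γ(η.total, ext η (U i)) →ₐ[k] Γ(X, U i) := ⟨red η (U i), red_algebraMap η (U i)⟩
    let φ := Algebra.FormallySmooth.liftOfSurjective (AlgHom.id k Γ(X, U i)) g (red_surjective η (haff i))
      (isNilpotent_ker_red η (haff i))
    exact ⟨φ.toRingHom, fun a => Algebra.FormallySmooth.liftOfSurjective_apply _ g _ _ a, fun c => φ.commutes c⟩
  choose φ₀ hφ₀r hφ₀c using h0
  have het : ∀ (i : ι) (V : X.affineOpens) (h : V.1 ≤ U i),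
      (Ample.res h : Γ(X, U i) →+* Γ(X, V.1)).FormallyEtale := by
    intro i V h
    haveI : IsOpenImmersion (Spec.map (X.presheaf.map (homOfLE h).op) ≫ (haff i).fromSpec) := by
      rw [IsAffineOpen.map_fromSpec (haff i) V.2]
      infer_instance
    haveI := IsOpenImmersion.of_comp (Spec.map (X.presheaf.map (homOfLE h).op)) (haff i).fromSpec
    have he : (X.presheaf.map (homOfLE h).op).hom.Etale := (HasRingHomProperty.Spec_iff (P := @Etale)).1 inferInstance
    letI := (X.presheaf.map (homOfLE h).op).hom.toAlgebra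
    haveI : Algebra.Etale Γ(X, U i) Γ(X, V.1) := RingHom.etale_algebraMap.1 he
    exact RingHom.formallyEtale_algebraMap.2 inferInstance
  have h : ∀ (i : ι) (V : X.affineOpens) (hVW : V.1 ≤ U i), ∃ φ : Γ(X, V.1) →+* Γ(η.total, ext η V.1),
      (∀ a, φ (Ample.res hVW a) = Ample.res (ext_mono η hVW) (φ₀ i a)) ∧ ∀ a, red η V.1 (φ a) = a := by
    intro i V hVW
    let r : Γ(X, U i) →+* Γ(X, V.1) := Ample.res hVW
    let r' : Γ(X, U i) →+* Γ(η.total, ext η V.1) :=
      (Ample.res (ext_mono η hVW) : Γ(η.total, ext η (U i)) →+* _).comp (φ₀ i)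
    letI := r.toAlgebra
    letI := r'.toAlgebra
    haveI : Algebra.FormallyEtale Γ(X, U i) Γ(X, V.1) := RingHom.formallyEtale_algebraMap.1 (het i V hVW)
    let g : Γ(η.total, ext η V.1) →ₐ[Γ(X, U i)] Γ(X, V.1) := ⟨red η V.1, fun a => by
      show red η V.1 (Ample.res (ext_mono η hVW) (φ₀ i a)) = Ample.res hVW a
      rw [red_res η hVW, hφ₀r]⟩
    let φ := Algebra.FormallySmooth.liftOfSurjective (AlgHom.id _ Γ(X, V.1)) g (red_surjective η V.2)
      (isNilpotent_ker_red η V.2)
    exact ⟨φ.toRingHom, fun a => φ.commutes a, fun a => Algebra.FormallySmooth.liftOfSurjective_apply _ g _ _ a⟩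
  choose φ hφr hφred using h
  refine ⟨⟨φ, hφred, fun i V V' h hV a => ?_, fun i V hV c => ?_⟩⟩
  · let r : Γ(X, U i) →+* Γ(X, V.1) := Ample.res hV
    let r' : Γ(X, U i) →+* Γ(η.total, ext η V'.1) :=
      (Ample.res (ext_mono η (h.trans hV)) : Γ(η.total, ext η (U i)) →+* _).comp (φ₀ i)
    letI := r.toAlgebra
    letI := r'.toAlgebra
    haveI : Algebra.FormallyEtale Γ(X, U i) Γ(X, V.1) := RingHom.formallyEtale_algebraMap.1 (het i V hV)
    let g₁ : Γ(X, V.1) →ₐ[Γ(X, U i)] Γ(η.total, ext η V'.1) :=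
      ⟨(φ i V' (h.trans hV)).comp (Ample.res h), fun b => by
        show φ i V' _ (Ample.res h (Ample.res hV b)) = Ample.res _ (φ₀ i b)
        rw [Ample.res_res, hφr]⟩
    let g₂ : Γ(X, V.1) →ₐ[Γ(X, U i)] Γ(η.total, ext η V'.1) :=
      ⟨(Ample.res (ext_mono η h) : Γ(η.total, ext η V.1) →+* _).comp (φ i V hV), fun b => by
        show Ample.res (ext_mono η h) (φ i V hV (Ample.res hV b)) = Ample.res _ (φ₀ i b)
        rw [hφr, Ample.res_res]⟩
    have := Algebra.FormallyUnramified.ext' (red η V'.1) (isNilpotent_ker_red η V'.2) g₁ g₂ (fun b => by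
      show red η V'.1 (φ i V' _ (Ample.res h b)) = red η V'.1 (Ample.res (ext_mono η h) (φ i V hV b))
      rw [hφred, red_res η h, hφred])
    exact AlgHom.congr_fun this a
  · rw [show cst x V.1 c = Ample.res hV (cst x (U i) c) from (Ample.res_res _ _ _).symm, hφr, hφ₀c]
    exact res_str η _ _

/-- Sections are carried along maps of deformations. -/
def Secs.push {g : A ⟶ B} {η : DefSch X x A} {η' : DefSch X x B} (h : Over' g η η') (s : Secs U η) : Secs U η' where
  σ i V hV := (h.push V.1).comp (s.σ i V hV)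
  red_σ i V hV a := (h.red_push _ _).trans (s.red_σ i V hV a)
  nat i V V' hle hV a := by
    show h.push V'.1 (s.σ i V' _ _) = Ample.res _ (h.push V.1 _)
    rw [s.nat, h.push_res hle]
  σ_cst i V hV c := by
    show h.push V.1 (s.σ i V hV _) = _
    rw [s.σ_cst, h.push_str, g.toAlgHom.commutes]

/-! ### Evaluating sections of `Hom(Ω, O)` -/

section Eval

variable [QuasiSeparated x]

theorem evA_smul {W : X.Opens} (V : X.affineOpens) (hV : V.1 ≤ W) (a : Γ(X, V.1)) (c : k)
    (s : BCCoh.secA x (G x) W) : evA x V hV a (c • s) = cst x V.1 c * evA x V hV a s := by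
  show ev x V.1 (mres (G x) hV (cst x W c • (show Γ(G x, W) from s))) a = _
  rw [mres_smul, show fres X hV (cst x W c) = cst x V.1 c from Ample.res_res _ _ _]
  show OmegaSh.fnSect X V.1 _ = cst x V.1 c * OmegaSh.fnSect X V.1 _
  refine (congrArg (fun z => OmegaSh.fnSect X V.1
    ((LocFreeHom.ev (Omega.sheaf x) (Coh.structureModule X)).app V.1 z))
    (OX.tmulSec_smul_right _ _ V.1 (cst x V.1 c) _ _)).trans ?_
  exact congrArg (OmegaSh.fnSect X V.1) (Scheme.Modules.Hom.app_smul _ _ _)

/-- A cochain represents the differences of the sections, with respect to an element killed by the maximal ideal. -/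
def IsRep {η : DefSch X x A} (s : Secs U η) (t : A) (z : BCCoh.cxX x U (G x) 1) : Prop :=
  ∀ i j (V : X.affineOpens) (hi : V.1 ≤ U i) (hj : V.1 ≤ U j) (r : Γ(X, V.1)),
    ∃ b, red η V.1 b = evA x V ((le_inf hi hj).trans (U2_le_W U i j)) r (z ![i, j]) ∧
      str η.f (ext η V.1) t * b = s.σ j V hj r - s.σ i V hi r

/-- A cochain pair represents the differences of the sections, with respect to two elements. -/
def IsRep2 {η : DefSch X x A} (s : Secs U η) (t₁ t₂ : A)
    (D₁' D₂' : ∀ (i j : ι) (V : X.affineOpens), V.1 ≤ U i → V.1 ≤ U j → Γ(X, V.1) → Γ(X, V.1)) : Prop :=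
  ∀ i j (V : X.affineOpens) (hi : V.1 ≤ U i) (hj : V.1 ≤ U j) (r : Γ(X, V.1)),
    ∃ b₁ b₂, red η V.1 b₁ = D₁' i j V hi hj r ∧ red η V.1 b₂ = D₂' i j V hi hj r ∧
      str η.f (ext η V.1) t₁ * b₁ + str η.f (ext η V.1) t₂ * b₂ = s.σ j V hj r - s.σ i V hi r

theorem exists_rep2 {η : DefSch X x A} (s : Secs U η) (t₁ t₂ : A)
    (hker : RingHom.ker A.res.toRingHom ≤ Ideal.span {t₁, t₂}) :
    ∃ D₁' D₂', IsRep2 s t₁ t₂ D₁' D₂' := by
  have h : ∀ i j (V : X.affineOpens) (hi : V.1 ≤ U i) (hj : V.1 ≤ U j) (r : Γ(X, V.1)),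
      ∃ b₁ b₂ : Γ(η.total, ext η V.1),
        str η.f _ t₁ * b₁ + str η.f _ t₂ * b₂ = s.σ j V hj r - s.σ i V hi r := fun i j V hi hj r => by
    have h1 := Ideal.map_mono (f := str η.f (ext η V.1)) hker
      (exists_of_red_eq_zero η V.2 (b := s.σ j V hj r - s.σ i V hi r) (by rw [map_sub, s.red_σ, s.red_σ, sub_self]))
    rw [Ideal.map_span, Set.image_pair, Ideal.mem_span_pair] at h1
    obtain ⟨b₁, b₂, e⟩ := h1
    exact ⟨b₁, b₂, by rw [← e]; ring⟩
  choose b₁ b₂ e using h
  exact ⟨fun i j V hi hj r => red η V.1 (b₁ i j V hi hj r), fun i j V hi hj r => red η V.1 (b₂ i j V hi hj r),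
    fun i j V hi hj r => ⟨_, _, rfl, rfl, e i j V hi hj r⟩⟩

end Eval

theorem red_eq_iff_eps {η : DefSch X x (D₁ k)} {V : X.Opens} (hV : IsAffineOpen V)
    {a b : Γ(η.total, ext η V)} : red η V a = red η V b ↔ str η.f _ (eps : D₁ k) * a = str η.f _ eps * b := by
  rw [← sub_eq_zero, ← map_sub, ← app_eq_zero_iff, map_sub, sub_eq_zero]
  exact (setup_eps η).app_eq_iff ⟨ext η V, isAffineOpen_ext η hV⟩

section Dual

variable [QuasiSeparated x] {η : DefSch X x (D₁ k)} (s : Secs U η)

/-- The differences of sections over the dual numbers are families of derivations. -/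
theorem exists_fld (i j : ι) :
    ∃ E : Fld x (U2 U i j), ∀ (V : X.affineOpens) (hi : V.1 ≤ U i) (hj : V.1 ≤ U j) (r : Γ(X, V.1)),
      ∃ b, red η V.1 b = E.D V (le_inf hi hj) r ∧ str η.f _ (eps : D₁ k) * b = s.σ j V hj r - s.σ i V hi r := by
  have h : ∀ (V : X.affineOpens) (hV : V.1 ≤ U2 U i j) (r : Γ(X, V.1)), ∃ b : Γ(η.total, ext η V.1),
      str η.f _ (eps : D₁ k) * b = s.σ j V (hV.trans inf_le_right) r - s.σ i V (hV.trans inf_le_left) r :=
    fun V hV r => DefFin26.exists_eps V.2 (by rw [map_sub, s.red_σ, s.red_σ, sub_self])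
  choose b hb using h
  refine ⟨{
    D := fun V hV r => red η V.1 (b V hV r)
    add := fun V hV r r' => ?_
    mul := fun V hV r r' => ?_
    cst_eq_zero := fun V hV c => ?_
    res := fun V V' h hV r => ?_ }, fun V hi hj r => ⟨b V (le_inf hi hj) r, rfl, hb V (le_inf hi hj) r⟩⟩
  · rw [← map_add]
    refine (red_eq_iff_eps V.2).2 ?_
    rw [hb, mul_add, hb, hb, map_add, map_add]
    abel
  · have e : r * red η V.1 (b V hV r') + r' * red η V.1 (b V hV r) =
        red η V.1 (s.σ j V (hV.trans inf_le_right) r * b V hV r' + s.σ i V (hV.trans inf_le_left) r' * b V hV r) := by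
      rw [map_add, map_mul, map_mul, s.red_σ, s.red_σ]
    rw [e]
    refine (red_eq_iff_eps V.2).2 ?_
    rw [hb, map_mul, map_mul, mul_add, mul_left_comm, hb, mul_left_comm, hb]
    ring
  · refine (show red η V.1 (b V hV (cst x V.1 c)) = red η V.1 0 from (red_eq_iff_eps V.2).2 ?_).trans (map_zero _)
    rw [hb, s.σ_cst, s.σ_cst, sub_self, mul_zero]
  · show Ample.res h (red η V.1 (b V hV r)) = red η V'.1 (b V' (h.trans hV) (Ample.res h r))
    rw [← red_res η h]
    refine (red_eq_iff_eps V'.2).2 ?_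
    rw [hb, s.nat j V V' h (hV.trans inf_le_right), s.nat i V V' h (hV.trans inf_le_left), ← map_sub, ← hb,
      map_mul, res_str η]

end Dual

end GrothLib.DefSm26
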