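import Groth.Agent.Lib.DefSm26.Secs
import Groth.Agent.Lib.DefSm26.Rigid
import Groth.Agent.Lib.DefSm26.Chart2

/-!
# The tangent space of the deformation functor of a smooth scheme is `H¹(Hom(Ω, O))`
-/

set_option autoImplicit false
set_option maxHeartbeats 800000
set_option linter.style.haveILetI false
set_option backward.isDefEq.respectTransparency false
universe u

noncomputable section

open CategoryTheory CategoryTheory.Limits AlgebraicGeometry Opposite TopologicalSpace ArtFun ArtFun.Art IsLocalRing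
open GrothLib.Ample (res res_res res_self)
open GrothLib.DefAut26 (str map_str)
open GrothLib.DefFin26 (cst ext red red_res red_str red_surjective isAffineOpen_ext ext_mono preimage_ext
  Over' res_str D₁ eps con)
open GrothLib.InvExt (mres mres_mres)

namespace GrothLib.DefSm26

attribute [local instance] LocFreeHom.hasSheafHom

variable {k : Type u} [Field k] {X : Scheme.{u}} {x : X ⟶ Spec (CommRingCat.of k)} {ι : Type u} {U : ι → X.Opens}

/-! ### The ring of a lift on an open and the functions on the extension of the open -/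

section ToExt

variable {A B : Art k k} {p : B ⟶ A} {t : B} {ξ : DefSch X x A} (hs : Small p t) {η : DefSch X x B}
variable (a : GrothLib.DefGlue19.Arr p η ξ)

theorem op_eq_ext (V : X.Opens) : Gl.op hs a V = ext η V :=
  DefFin26.eq_of_preimage η (by
    rw [preimage_ext, ← a.i_hom, Scheme.Hom.comp_preimage, Gl.preimage, preimage_ext])

/-- From the ring of the lift to the functions on the extension. -/
def toExt (V : X.affineOpens) : (Gl.sys hs a).E V le_top →+* Γ(η.total, ext η V.1) :=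
  Ample.res (op_eq_ext hs a V.1).ge

/-- From the functions on the extension to the ring of the lift. -/
def fromExt (V : X.affineOpens) : Γ(η.total, ext η V.1) →+* (Gl.sys hs a).E V le_top :=
  Ample.res (op_eq_ext hs a V.1).le

theorem toExt_fromExt (V : X.affineOpens) (z : Γ(η.total, ext η V.1)) : toExt hs a V (fromExt hs a V z) = z := by
  show Ample.res _ (Ample.res _ z) = z
  rw [Ample.res_res, Ample.res_self]

theorem fromExt_toExt (V : X.affineOpens) (z : (Gl.sys hs a).E V le_top) : fromExt hs a V (toExt hs a V z) = z :=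
  (Ample.res_res _ _ _).trans (Ample.res_self _ _)

theorem red_toExt (V : X.affineOpens) (z : (Gl.sys hs a).E V le_top) :
    red η V.1 (toExt hs a V z) = (Gl.sys hs a).ρ V le_top z := by
  have hπ : (Gl.sys hs a).π V le_top z = (a.hom.appLE (Gl.op hs a V.1) (ext ξ V.1) (Gl.preimage hs a V.1).ge).hom z :=
    japp_chartπ hs.surj (Gl.isPullback' a) Gl.ext_le (le_top : V.1 ≤ ⊤) z
  have hle : V.1 ≤ η.i ⁻¹ᵁ Gl.op hs a V.1 := by rw [op_eq_ext, preimage_ext]
  have h1 : red η V.1 (toExt hs a V z) = (η.i.appLE (Gl.op hs a V.1) V.1 hle).hom z :=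
    Ample.appLE_res η.i _ _ z
  rw [h1]
  show _ = (ξ.i.appLE (ext ξ V.1) V.1 _).hom ((Gl.sys hs a).π V le_top z)
  rw [hπ, ← CommRingCat.comp_apply, Scheme.Hom.appLE_comp_appLE]
  simp only [a.i_hom]

theorem toExt_res (V V' : X.affineOpens) (h : V'.1 ≤ V.1) (z : (Gl.sys hs a).E V le_top) :
    toExt hs a V' ((Gl.sys hs a).res V V' h le_top z) = Ample.res (ext_mono η h) (toExt hs a V z) :=
  (Ample.res_res _ _ z).trans (Ample.res_res _ _ z).symm

theorem fromExt_res (V V' : X.affineOpens) (h : V'.1 ≤ V.1) (z : Γ(η.total, ext η V.1)) :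
    fromExt hs a V' (Ample.res (ext_mono η h) z) = (Gl.sys hs a).res V V' h le_top (fromExt hs a V z) :=
  (Ample.res_res _ _ z).trans (Ample.res_res _ _ z).symm

theorem toExt_s (V : X.affineOpens) (r : B) : toExt hs a V ((Gl.sys hs a).s V le_top r) = str η.f (ext η V.1) r :=
  map_str η.f _ r

theorem fromExt_str (V : X.affineOpens) (r : B) : fromExt hs a V (str η.f (ext η V.1) r) = (Gl.sys hs a).s V le_top r :=
  map_str η.f _ r

theorem ρ_fromExt (V : X.affineOpens) (z : Γ(η.total, ext η V.1)) :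
    (Gl.sys hs a).ρ V le_top (fromExt hs a V z) = red η V.1 z := by
  rw [← red_toExt, toExt_fromExt]

theorem toExt_tm (V : X.affineOpens) (r : Γ(X, V.1)) :
    ∃ b, red η V.1 b = r ∧ str η.f (ext η V.1) t * b = toExt hs a V ((Gl.sys hs a).tm V le_top r) := by
  obtain ⟨c, rfl⟩ := (Gl.sys hs a).ρ_surj V le_top r
  refine ⟨toExt hs a V c, red_toExt hs a V c, ?_⟩
  rw [(Gl.sys hs a).tm_ρ hs, map_mul, toExt_s]

variable {η' : DefSch X x B} (a' : GrothLib.DefGlue19.Arr p η' ξ)

/-- Sections of one lift are carried to another by comparisons. -/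
def secsOfMors (θ : ∀ i, Mor ((Gl.sys hs a').restr (le_top : U i ≤ ⊤)) ((Gl.sys hs a).restr (le_top : U i ≤ ⊤)))
    (s : Secs (fun _ : PUnit.{u + 1} => (⊤ : X.Opens)) η') : Secs U η where
  σ i V hV := (toExt hs a V).comp (((θ i).φ V hV hV).comp ((fromExt hs a' V).comp (s.σ PUnit.unit V le_top)))
  red_σ i V hV r := by
    show red η V.1 (toExt hs a V ((θ i).φ V hV hV (fromExt hs a' V (s.σ PUnit.unit V le_top r)))) = r
    rw [red_toExt]
    refine ((θ i).ρ V hV hV _).trans ?_
    exact (ρ_fromExt hs a' V _).trans (s.red_σ PUnit.unit V le_top r)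
  nat i V V' h hV r := by
    show toExt hs a V' ((θ i).φ V' _ _ (fromExt hs a' V' (s.σ PUnit.unit V' le_top (Ample.res h r)))) =
      Ample.res _ (toExt hs a V ((θ i).φ V hV hV (fromExt hs a' V (s.σ PUnit.unit V le_top r))))
    rw [show s.σ PUnit.unit V' le_top (Ample.res h r) = _ from s.nat PUnit.unit V V' h le_top r, fromExt_res hs a' V V' h]
    exact (congrArg (toExt hs a V') ((θ i).res V V' h hV hV _)).trans (toExt_res hs a V V' h _)
  σ_cst i V hV c := by
    show toExt hs a V ((θ i).φ V hV hV (fromExt hs a' V (s.σ PUnit.unit V le_top (cst x V.1 c)))) = _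
    rw [s.σ_cst, fromExt_str]
    exact (congrArg (toExt hs a V) ((θ i).s V hV hV _)).trans (toExt_s hs a V _)

end ToExt

/-- The tautological sections of `X` over `k`. -/
def selfSecs (hx : Flat x) : Secs (fun _ : PUnit.{u + 1} => (⊤ : X.Opens)) (DefSch.self (Λ := k) X x hx) where
  σ _ V _ := Ample.res ((DefFin26.ext_preimage (DefSch.self (Λ := k) X x hx) V.1).le)
  red_σ _ V _ r := by
    show Ample.res _ (((𝟙 X : X ⟶ X).app _).hom (Ample.res _ r)) = r
    rw [Scheme.Hom.id_app]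
    exact (Ample.res_res _ _ _).trans (Ample.res_self _ _)
  nat _ V V' h _ r := (Ample.res_res _ _ r).trans (Ample.res_res _ _ r).symm
  σ_cst _ V _ c := (Ample.res_res _ _ _).trans rfl

/-- The tautological sections of the trivial deformation. -/
def trivSecs (hx : Flat x) (A : Art k k) :
    Secs (fun _ : PUnit.{u + 1} => (⊤ : X.Opens)) (DefSch.trivial X x hx A) :=
  (selfSecs hx).push (Over'.baseChange (DefSch.self (Λ := k) X x hx) (ofBase A))

/-! ### Cohomology classes -/

variable [QuasiSeparated x]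

variable (x U) in
/-- Cocycles. -/
abbrev Z1 : Submodule k (BCCoh.cxX x U (G x) 1) := LinearMap.ker (BCCoh.cxd x U (G x) 1).hom

variable (x U) in
/-- Coboundaries. -/
abbrev B1 : Submodule k (Z1 x U) := (LinearMap.range (BCCoh.cxd x U (G x) 0).hom).comap (Z1 x U).subtype

variable (x U) in
/-- The first Čech cohomology. -/
abbrev H1C : Type u := Z1 x U ⧸ B1 x U

theorem cochain_ext {z z' : BCCoh.cxX x U (G x) 1}
    (h : ∀ i j (V : X.affineOpens) (hi : V.1 ≤ U i) (hj : V.1 ≤ U j) (r : Γ(X, V.1)),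
      evA x V ((le_inf hi hj).trans (U2_le_W U i j)) r (z ![i, j]) =
        evA x V ((le_inf hi hj).trans (U2_le_W U i j)) r (z' ![i, j])) : z = z' := by
  funext a
  obtain ⟨i, j, rfl⟩ : ∃ i j, a = ![i, j] := ⟨a 0, a 1, by funext q; fin_cases q <;> rfl⟩
  exact section_ext x _ _ fun V hV r => h i j V (hV.trans (W_le U ![i, j] 0)) (hV.trans (W_le U ![i, j] 1)) r

theorem exists_cochain (c : ∀ i j, Fld x (U2 U i j)) :
    ∃ z : BCCoh.cxX x U (G x) 1, ∀ i j (V : X.affineOpens) (hi : V.1 ≤ U i) (hj : V.1 ≤ U j) (r : Γ(X, V.1)),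
      evA x V ((le_inf hi hj).trans (U2_le_W U i j)) r (z ![i, j]) = (c i j).D V (le_inf hi hj) r := by
  choose s hs using fun i j => exists_section x (U2 U i j) (c i j)
  refine ⟨fun a => mres (G x) (W_one_le U a) (s (a 0) (a 1)), fun i j V hi hj r => ?_⟩
  show ev x V.1 (mres (G x) _ (mres (G x) _ (s i j))) r = _
  rw [mres_mres]
  exact hs i j V (le_inf hi hj) r

theorem evA_cxd_zero (y : BCCoh.cxX x U (G x) 0) (i j : ι) (V : X.affineOpens) (hi : V.1 ≤ U i) (hj : V.1 ≤ U j)
    (r : Γ(X, V.1)) :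
    evA x V ((le_inf hi hj).trans (U2_le_W U i j)) r (BCCoh.cxd x U (G x) 0 y ![i, j]) =
      evA x V (le_W U ![j] (Fin.forall_fin_one.2 hj)) r (y ![j]) -
        evA x V (le_W U ![i] (Fin.forall_fin_one.2 hi)) r (y ![i]) := by
  rw [BCCoh.cxd_apply, map_sum]
  simp only [map_zsmul, evA_resA]
  rw [Fin.sum_univ_two]
  simp only [Fin.val_zero, Fin.val_one, pow_zero, pow_one, one_smul, neg_smul]
  have key : ∀ (a : Fin (0 + 1) → ι) (a' : Fin (0 + 1) → ι) (e : a = a') (h₁ : V.1 ≤ BCCoh.W U a)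
      (h₂ : V.1 ≤ BCCoh.W U a'), evA x V h₁ r (y a) = evA x V h₂ r (y a') := by
    rintro a a' rfl h₁ h₂
    rfl
  have v0 : (fun t : Fin 1 => (![i, j] : Fin 2 → ι) ((0 : Fin 2).succAbove t)) = ![j] := by
    funext t; fin_cases t; rfl
  have v1 : (fun t : Fin 1 => (![i, j] : Fin 2 → ι) ((1 : Fin 2).succAbove t)) = ![i] := by
    funext t; fin_cases t; rfl
  rw [key _ _ v0 _ (le_W U ![j] (Fin.forall_fin_one.2 hj)), key _ _ v1 _ (le_W U ![i] (Fin.forall_fin_one.2 hi))]
  exact (sub_eq_add_neg _ _).symm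

theorem exists_cobound (e : ∀ i, Fld x (U i)) :
    ∃ y : BCCoh.cxX x U (G x) 0, ∀ i j (V : X.affineOpens) (hi : V.1 ≤ U i) (hj : V.1 ≤ U j) (r : Γ(X, V.1)),
      evA x V ((le_inf hi hj).trans (U2_le_W U i j)) r (BCCoh.cxd x U (G x) 0 y ![i, j]) =
        (e j).D V hj r - (e i).D V hi r := by
  choose s hs using fun i => exists_section x (U i) (e i)
  refine ⟨fun a => mres (G x) (W_le U a 0) (s (a 0)), fun i j V hi hj r => ?_⟩
  rw [evA_cxd_zero _ i j V hi hj]
  show ev x V.1 (mres (G x) _ (mres (G x) _ (s j))) r - ev x V.1 (mres (G x) _ (mres (G x) _ (s i))) r = _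
  rw [mres_mres, mres_mres]
  exact congrArg₂ (· - ·) (hs j V hj r) (hs i V hi r)

variable {A : Art k k} {η : DefSch X x (D₁ k)}

theorem exists_isRep (s : Secs U η) : ∃ z, IsRep s (eps : D₁ k) z := by
  choose E hE using exists_fld s
  obtain ⟨z, hz⟩ := exists_cochain E
  exact ⟨z, fun i j V hi hj r => by
    obtain ⟨b, hb, e⟩ := hE i j V hi hj r
    exact ⟨b, hb.trans (hz i j V hi hj r).symm, e⟩⟩

theorem IsRep.mem {s : Secs U η} {z : BCCoh.cxX x U (G x) 1} (h : IsRep s (eps : D₁ k) z) : z ∈ Z1 x U := by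
  funext a
  refine section_ext x _ _ fun V hV r => ?_
  show evA x V hV r (BCCoh.cxd x U (G x) 1 z a) = evA x V hV r 0
  rw [map_zero, BCCoh.cxd_apply, map_sum]
  simp only [map_zsmul, evA_resA]
  have key : ∀ (a : Fin (1 + 1) → ι) (a' : Fin (1 + 1) → ι) (e : a = a') (h₁ : V.1 ≤ BCCoh.W U a)
      (h₂ : V.1 ≤ BCCoh.W U a'), evA x V h₁ r (z a) = evA x V h₂ r (z a') := by
    rintro a a' rfl h₁ h₂
    rfl
  have h0 := hV.trans (W_le U a 0)
  have h1 := hV.trans (W_le U a 1)
  have h2 := hV.trans (W_le U a 2)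
  rw [Fin.sum_univ_three]
  simp only [Fin.val_zero, Fin.val_one, Fin.val_two, pow_zero, pow_one, neg_one_sq, one_smul, neg_smul]
  have v0 : (fun t : Fin 2 => a ((0 : Fin 3).succAbove t)) = ![a 1, a 2] := by
    funext t; fin_cases t <;> rfl
  have v1 : (fun t : Fin 2 => a ((1 : Fin 3).succAbove t)) = ![a 0, a 2] := by
    funext t; fin_cases t <;> rfl
  have v2 : (fun t : Fin 2 => a ((2 : Fin 3).succAbove t)) = ![a 0, a 1] := by
    funext t; fin_cases t <;> rfl
  rw [key _ _ v0 _ ((le_inf h1 h2).trans (U2_le_W U _ _)), key _ _ v1 _ ((le_inf h0 h2).trans (U2_le_W U _ _)),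
    key _ _ v2 _ ((le_inf h0 h1).trans (U2_le_W U _ _))]
  obtain ⟨b₀, r₀, e₀⟩ := h (a 1) (a 2) V h1 h2 r
  obtain ⟨b₁, r₁, e₁⟩ := h (a 0) (a 2) V h0 h2 r
  obtain ⟨b₂, r₂, e₂⟩ := h (a 0) (a 1) V h0 h1 r
  rw [← r₀, ← r₁, ← r₂, ← map_neg, ← map_add, ← map_add, ← map_zero (red η V.1)]
  refine (red_eq_iff_eps V.2).2 ?_
  rw [mul_add, mul_add, mul_neg, e₀, e₁, e₂, mul_zero]
  ring

theorem IsRep.eq_of_eq {s : Secs U η} {z : BCCoh.cxX x U (G x) 1} (h : IsRep s (eps : D₁ k) z)
    (D : ∀ (i j : ι) (V : X.affineOpens), V.1 ≤ U i → V.1 ≤ U j → Γ(X, V.1) → Γ(X, V.1))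
    (hD : ∀ i j (V : X.affineOpens) (hi : V.1 ≤ U i) (hj : V.1 ≤ U j) (r : Γ(X, V.1)),
      ∃ b, red η V.1 b = D i j V hi hj r ∧ str η.f (ext η V.1) (eps : D₁ k) * b = s.σ j V hj r - s.σ i V hi r)
    (i j : ι) (V : X.affineOpens) (hi : V.1 ≤ U i) (hj : V.1 ≤ U j) (r : Γ(X, V.1)) :
    evA x V ((le_inf hi hj).trans (U2_le_W U i j)) r (z ![i, j]) = D i j V hi hj r := by
  obtain ⟨b, hb, e⟩ := h i j V hi hj r
  obtain ⟨b', hb', e'⟩ := hD i j V hi hj r
  rw [← hb, ← hb']
  exact (red_eq_iff_eps V.2).2 (e.trans e'.symm)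

/-- Two choices of sections give cohomologous cochains. -/
theorem sub_mem_range {s s' : Secs U η} {z z' : BCCoh.cxX x U (G x) 1} (h : IsRep s (eps : D₁ k) z)
    (h' : IsRep s' (eps : D₁ k) z') : z' - z ∈ LinearMap.range (BCCoh.cxd x U (G x) 0).hom := by
  let s'' : Secs (fun q : ι × Bool => U q.1) η :=
    { σ := fun q => if q.2 then s'.σ q.1 else s.σ q.1
      red_σ := fun q V hV r => by cases h : q.2 <;> simp [s.red_σ, s'.red_σ]
      nat := fun q V V' hle hV r => by cases h : q.2 <;> simp [s.nat q.1 V V' hle hV, s'.nat q.1 V V' hle hV]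
      σ_cst := fun q V hV c => by cases h : q.2 <;> simp [s.σ_cst, s'.σ_cst] }
  choose E hE using fun i : ι => exists_fld s'' (i, false) (i, true)
  let e : ∀ i, Fld x (U i) := fun i =>
    { D := fun V hV => (E i).D V (le_inf hV hV)
      add := fun V hV => (E i).add V _
      mul := fun V hV => (E i).mul V _
      cst_eq_zero := fun V hV => (E i).cst_eq_zero V _
      res := fun V V' hle hV => (E i).res V V' hle _ }
  obtain ⟨y, hy⟩ := exists_cobound e
  refine ⟨y, cochain_ext fun i j V hi hj r => ?_⟩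
  refine (hy i j V hi hj r).trans ?_
  have hsub : evA x V ((le_inf hi hj).trans (U2_le_W U i j)) r ((z' - z) ![i, j]) =
      evA x V ((le_inf hi hj).trans (U2_le_W U i j)) r (z' ![i, j]) -
        evA x V ((le_inf hi hj).trans (U2_le_W U i j)) r (z ![i, j]) := map_sub _ _ _
  rw [hsub]
  obtain ⟨b, rb, eb⟩ := h i j V hi hj r
  obtain ⟨b', rb', eb'⟩ := h' i j V hi hj r
  obtain ⟨ci, rci, eci⟩ := hE i V hi hi r
  obtain ⟨cj, rcj, ecj⟩ := hE j V hj hj r
  show (E j).D V _ r - (E i).D V _ r = _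
  rw [← rb, ← rb', ← rci, ← rcj, ← map_sub, ← map_sub]
  refine (red_eq_iff_eps V.2).2 ?_
  rw [mul_sub, mul_sub, eci, ecj, eb, eb']
  simp only [s'', if_true, Bool.false_eq_true, if_false]
  ring

/-- The class of a deformation over the dual numbers. -/
def IsPsi (u : (defFunctor X x).obj (D₁ k)) (q : H1C x U) : Prop :=
  ∀ (η : DefSch X x (D₁ k)) (s : Secs U η) (z : BCCoh.cxX x U (G x) 1) (h : IsRep s (eps : D₁ k) z),
    η.cl = u → (B1 x U).mkQ ⟨z, h.mem⟩ = q

theorem exists_psi [Smooth x] (haff : ∀ i, IsAffineOpen (U i)) (u : (defFunctor X x).obj (D₁ k)) :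
    ∃ q : H1C x U, IsPsi u q := by
  induction u using Quotient.inductionOn with | h ξ => ?_
  obtain ⟨s₀⟩ := nonempty_secs haff ξ
  obtain ⟨z₀, h₀⟩ := exists_isRep s₀
  refine ⟨(B1 x U).mkQ ⟨z₀, h₀.mem⟩, fun η s z hz he => ?_⟩
  obtain ⟨e⟩ : Nonempty (η.Iso ξ) := Quotient.exact he
  have hpush : IsRep (s₀.push (Over'.ofIso e)) (eps : D₁ k) z₀ := fun i j V hi hj r => by
    obtain ⟨b, hb, eb⟩ := h₀ i j V hi hj r
    refine ⟨(Over'.ofIso e).push _ b, ((Over'.ofIso e).red_push _ _).trans hb, ?_⟩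
    refine Eq.trans ?_ ((congrArg ((Over'.ofIso e).push V.1) eb).trans (map_sub _ _ _))
    rw [map_mul, Over'.push_str]
    rfl
  exact (Submodule.Quotient.eq _).2 (sub_mem_range hpush hz)

variable [Smooth x] (haff : ∀ i, IsAffineOpen (U i))

/-- The map to the first Čech cohomology. -/
def psi (u : TangentSpace (defFunctor (Λ := k) X x)) : H1C x U := (exists_psi haff u).choose

theorem psi_eq {u : TangentSpace (defFunctor (Λ := k) X x)} (η : DefSch X x (D₁ k)) {s : Secs U η}
    {z : BCCoh.cxX x U (G x) 1} (h : IsRep s (eps : D₁ k) z) (he : η.cl = u) :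
    psi haff u = (B1 x U).mkQ ⟨z, h.mem⟩ :=
  ((exists_psi haff u).choose_spec η s z h he).symm

/-- Differences pushed along a map of bases. -/
theorem IsRep2.push {ξ : DefSch X x A} {s : Secs U ξ} {t₁ t₂ : A}
    {D₁' D₂' : ∀ (i j : ι) (V : X.affineOpens), V.1 ≤ U i → V.1 ≤ U j → Γ(X, V.1) → Γ(X, V.1)}
    (h : IsRep2 s t₁ t₂ D₁' D₂') {η : DefSch X x (D₁ k)} {g : A ⟶ D₁ k} (v : Over' g ξ η) {c₁ c₂ : k}
    (h₁ : g t₁ = con c₁ * eps) (h₂ : g t₂ = con c₂ * eps) (i j : ι) (V : X.affineOpens) (hi : V.1 ≤ U i)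
    (hj : V.1 ≤ U j) (r : Γ(X, V.1)) :
    ∃ b, red η V.1 b = cst x V.1 c₁ * D₁' i j V hi hj r + cst x V.1 c₂ * D₂' i j V hi hj r ∧
      str η.f (ext η V.1) (eps : D₁ k) * b = (s.push v).σ j V hj r - (s.push v).σ i V hi r := by
  obtain ⟨b₁, b₂, r₁, r₂, e⟩ := h i j V hi hj r
  refine ⟨str η.f _ (con c₁) * v.push _ b₁ + str η.f _ (con c₂) * v.push _ b₂, ?_, ?_⟩
  · rw [map_add, map_mul, map_mul, v.red_push, v.red_push, r₁, r₂, red_str, red_str]
    rfl
  · show _ = v.push V.1 _ - v.push V.1 _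
    rw [← map_sub, ← e, map_add, map_mul, map_mul, v.push_str, v.push_str, h₁, h₂, map_mul, map_mul]
    ring

variable [TangentStr (defFunctor (Λ := k) X x)]

theorem psi_smul (c : k) (u : TangentSpace (defFunctor (Λ := k) X x)) : psi haff (c • u) = c • psi haff u := by
  induction u using Quotient.inductionOn with | h ξ => ?_
  obtain ⟨s⟩ := nonempty_secs haff ξ
  obtain ⟨z, hz⟩ := exists_isRep s
  have h2 : IsRep2 s (eps : D₁ k) (eps : D₁ k)
      (fun i j V hi hj r => evA x V ((le_inf hi hj).trans (U2_le_W U i j)) r (z ![i, j]))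
      (fun _ _ _ _ _ _ => 0) := fun i j V hi hj r => by
    obtain ⟨b, hb, e⟩ := hz i j V hi hj r
    exact ⟨b, 0, hb, map_zero _, by rw [mul_zero, add_zero]; exact e⟩
  have hg : (Art.scale c : D₁ k ⟶ D₁ k) eps = con c * eps := by
    refine TrivSqZeroExt.ext ?_ ?_
    · show (0 : k) = TrivSqZeroExt.fst ((TrivSqZeroExt.inl c : DualNumber k) * DualNumber.eps)
      simp
    · show c * 1 = TrivSqZeroExt.snd ((TrivSqZeroExt.inl c : DualNumber k) * DualNumber.eps)
      simp
  let v := Over'.baseChange ξ (Art.scale c : D₁ k ⟶ D₁ k)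
  obtain ⟨z', hz'⟩ := exists_isRep (s.push v)
  have he : z' = c • z := cochain_ext fun i j V hi hj r => by
    rw [hz'.eq_of_eq _ (fun i j V hi hj r => h2.push v hg hg i j V hi hj r) i j V hi hj r, mul_zero, add_zero]
    exact (evA_smul V _ r c (z ![i, j])).symm
  refine (congrArg (psi haff) (TangentStr.smul_eq c _)).trans ?_
  refine (psi_eq haff (ξ.baseChange (Art.scale c)) hz' rfl).trans ?_
  refine Eq.trans ?_ (congrArg (fun q : H1C x U => c • q) (psi_eq haff ξ hz rfl)).symm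
  rw [← map_smul]
  exact congrArg _ (Subtype.ext he)

theorem psi_add (u v : TangentSpace (defFunctor (Λ := k) X x)) : psi haff (u + v) = psi haff u + psi haff v := by
  obtain ⟨w, hw₁, hw₂⟩ := GrothLib.ArtFun.exists_of_cmp_surjective
    (DefGlue19.cmp_surjective X x (Art.isFibreProd_dual2 (Λ := k) (k := k)) (Art.dual k k).res_surjective) u v
    (GrothLib.ArtFun.h0_eq (DefGlue19.h0_defFunctor X x) _ _)
  induction w using Quotient.inductionOn with | h ξ => ?_
  have h : u + v = (defFunctor X x).map Art.plus ξ.cl := by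
    rw [← TangentStr.add_eq (F := defFunctor (Λ := k) X x) ξ.cl]
    exact congrArg₂ (· + ·) hw₁.symm hw₂.symm
  subst hw₁ hw₂
  let a₁ : Art.dual2 k k := (TrivSqZeroExt.inr ((1 : k), (0 : k)) : TrivSqZeroExt k (k × k))
  let a₂ : Art.dual2 k k := (TrivSqZeroExt.inr ((0 : k), (1 : k)) : TrivSqZeroExt k (k × k))
  have hker : RingHom.ker (Art.dual2 k k).res.toRingHom ≤ Ideal.span {a₁, a₂} := by
    intro d hd
    let d' : TrivSqZeroExt k (k × k) := d
    refine Ideal.mem_span_pair.2 ⟨(TrivSqZeroExt.inl d'.snd.1 : TrivSqZeroExt k (k × k)),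
      (TrivSqZeroExt.inl d'.snd.2 : TrivSqZeroExt k (k × k)), ?_⟩
    have hd0 : d'.fst = 0 := hd
    show TrivSqZeroExt.inl d'.snd.1 * TrivSqZeroExt.inr ((1 : k), (0 : k)) +
      TrivSqZeroExt.inl d'.snd.2 * TrivSqZeroExt.inr ((0 : k), (1 : k)) = d'
    rw [TrivSqZeroExt.inl_mul_inr, TrivSqZeroExt.inl_mul_inr, ← TrivSqZeroExt.inr_add]
    conv_rhs => rw [← TrivSqZeroExt.inl_fst_add_inr_snd_eq d', hd0, TrivSqZeroExt.inl_zero, zero_add]
    congr 1
    ext <;> simp
  have ev' : ∀ (f : (k × k) →ₗ[k] k) (v : k × k),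
      (show D₁ k from (Art.tszeMap f : TrivSqZeroExt k (k × k) →ₐ[k] TrivSqZeroExt k k) (TrivSqZeroExt.inr v)) =
        con (f v) * eps := fun f v => by
    refine TrivSqZeroExt.ext ?_ ?_
    · show (0 : k) = TrivSqZeroExt.fst ((TrivSqZeroExt.inl (f v) : DualNumber k) * DualNumber.eps)
      simp
    · show f v = TrivSqZeroExt.snd ((TrivSqZeroExt.inl (f v) : DualNumber k) * DualNumber.eps)
      simp
  have p1 : (Art.pr₁ : Art.dual2 k k ⟶ D₁ k) a₁ = con 1 * eps := ev' (LinearMap.fst k k k) (1, 0)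
  have p2 : (Art.pr₁ : Art.dual2 k k ⟶ D₁ k) a₂ = con 0 * eps := ev' (LinearMap.fst k k k) (0, 1)
  have q1 : (Art.pr₂ : Art.dual2 k k ⟶ D₁ k) a₁ = con 0 * eps := ev' (LinearMap.snd k k k) (1, 0)
  have q2 : (Art.pr₂ : Art.dual2 k k ⟶ D₁ k) a₂ = con 1 * eps := ev' (LinearMap.snd k k k) (0, 1)
  have s1 : (Art.plus : Art.dual2 k k ⟶ D₁ k) a₁ = con 1 * eps :=
    (ev' (LinearMap.fst k k k + LinearMap.snd k k k) (1, 0)).trans (by simp)
  have s2 : (Art.plus : Art.dual2 k k ⟶ D₁ k) a₂ = con 1 * eps :=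
    (ev' (LinearMap.fst k k k + LinearMap.snd k k k) (0, 1)).trans (by simp)
  obtain ⟨s⟩ := nonempty_secs haff ξ
  obtain ⟨D₁', D₂', hD⟩ := exists_rep2 s a₁ a₂ hker
  let v₁ := Over'.baseChange ξ (Art.pr₁ : Art.dual2 k k ⟶ D₁ k)
  let v₂ := Over'.baseChange ξ (Art.pr₂ : Art.dual2 k k ⟶ D₁ k)
  let v₃ := Over'.baseChange ξ (Art.plus : Art.dual2 k k ⟶ D₁ k)
  obtain ⟨z₁, hz₁⟩ := exists_isRep (s.push v₁)
  obtain ⟨z₂, hz₂⟩ := exists_isRep (s.push v₂)
  obtain ⟨z₃, hz₃⟩ := exists_isRep (s.push v₃)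
  have he : z₃ = z₁ + z₂ := cochain_ext fun i j V hi hj r => by
    refine Eq.trans ?_ (map_add (evA x V _ r) _ _).symm
    rw [hz₁.eq_of_eq _ (fun i j V hi hj r => hD.push v₁ p1 p2 i j V hi hj r) i j V hi hj r,
      hz₂.eq_of_eq _ (fun i j V hi hj r => hD.push v₂ q1 q2 i j V hi hj r) i j V hi hj r,
      hz₃.eq_of_eq _ (fun i j V hi hj r => hD.push v₃ s1 s2 i j V hi hj r) i j V hi hj r]
    simp
  refine (congrArg (psi haff) h).trans ?_
  show _ = psi haff ((defFunctor X x).map Art.pr₁ ξ.cl) + psi haff ((defFunctor X x).map Art.pr₂ ξ.cl)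
  rw [psi_eq haff (u := (defFunctor X x).map Art.pr₁ ξ.cl) _ hz₁ rfl,
    psi_eq haff (u := (defFunctor X x).map Art.pr₂ ξ.cl) _ hz₂ rfl, ← map_add]
  refine (psi_eq haff (ξ.baseChange Art.plus) hz₃ rfl).trans ?_
  exact congrArg _ (Subtype.ext he)

/-- The linear map. -/
def psiL : TangentSpace (defFunctor (Λ := k) X x) →ₗ[k] H1C x U where
  toFun := psi haff
  map_add' := psi_add haff
  map_smul' := psi_smul haff

theorem bijective_psiL (hU : ∀ z : X, ∃ i, z ∈ U i) :
    Function.Bijective (psiL (x := x) (U := U) haff) := by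
  have hx : Flat x := GrothLib.DefGlue19.flat_specPt x
  let η₀ : DefSch X x (dual k k) := DefSch.trivial X x hx (dual k k)
  let ξ : DefSch X x (Art.base k k) := DefSch.self X x hx
  have harr : ∀ η : DefSch X x (dual k k), Nonempty (GrothLib.DefGlue19.Arr (toBase (dual k k)) η ξ) := fun η =>
    GrothLib.DefGlue19.arr_of_eq (g := toBase (dual k k)) (ξ := η) (η := ξ)
      ((GrothLib.DefGlue19.h0_defFunctor X x).2.elim _ _)
  obtain ⟨b⟩ := harr η₀
  let s₀ := trivSecs hx (dual k k)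
  let L := Gl.sys small_dual b
  have hs₀ : ∀ (V : X.affineOpens) (r : Γ(X, V.1)),
      L.ρ V le_top (fromExt small_dual b V (s₀.σ PUnit.unit V le_top r)) = r := fun V r =>
    (ρ_fromExt small_dual b V _).trans (s₀.red_σ PUnit.unit V le_top r)
  refine ⟨(injective_iff_map_eq_zero (psiL (x := x) (U := U) haff)).2 fun u hu => ?_, fun q => ?_⟩
  · induction u using Quotient.inductionOn with | h η => ?_
    obtain ⟨a⟩ := harr η
    let M := Gl.sys small_dual a
    let θ := fun i => (nonempty_mor small_dual (L.restr (le_top : U i ≤ ⊤)) (M.restr (le_top : U i ≤ ⊤))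
      (by rw [inf_idem]; exact haff i) (cst_smooth (by rw [inf_idem]; exact haff i))).some
    let φ : ∀ (i : ι) (V : X.affineOpens), V.1 ≤ U i → (L.E V le_top →+* M.E V le_top) := fun i V h => (θ i).φ V h h
    have hd : ∀ i j, ∃ E : Fld x (U2 U i j), ∀ (V : X.affineOpens) (hi : V.1 ≤ U i) (hj : V.1 ≤ U j)
        (b : L.E V le_top), φ j V hj b = φ i V hi b + M.tm V le_top (E.D V (le_inf hi hj) (L.ρ V le_top b)) := by
      intro i j
      obtain ⟨E, hE⟩ := exists_diff small_dual (L.restr (le_top : U i ≤ ⊤)) (M.restr (le_top : U i ≤ ⊤))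
        (W := U2 U i j) inf_le_left inf_le_left
        (fun V hV => (θ i).φ V (hV.trans inf_le_left) (hV.trans inf_le_left))
        (fun V hV => (θ j).φ V (hV.trans inf_le_right) (hV.trans inf_le_right))
        (fun V V' h hV b => (θ i).res V V' h _ _ b)
        (fun V V' h hV b => (θ j).res V V' h (hV.trans inf_le_right) (hV.trans inf_le_right) b)
        (fun V hV b => (θ i).π V _ _ b)
        (fun V hV b => (θ j).π V (hV.trans inf_le_right) (hV.trans inf_le_right) b)
        (fun V hV b => (θ i).s V _ _ b)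
        (fun V hV b => (θ j).s V (hV.trans inf_le_right) (hV.trans inf_le_right) b)
      exact ⟨E, fun V hi hj b => hE V (le_inf hi hj) b⟩
    choose c hc using hd
    obtain ⟨z, hz⟩ := exists_cochain c
    have hrep : IsRep (secsOfMors small_dual a b θ s₀) (eps : D₁ k) z := fun i j V hi hj r => by
      obtain ⟨d, hd, ed⟩ := toExt_tm small_dual a V ((c i j).D V (le_inf hi hj) r)
      refine ⟨d, hd.trans (hz i j V hi hj r).symm, ed.trans ?_⟩
      let w := fromExt small_dual b V (s₀.σ PUnit.unit V le_top r)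
      show _ = toExt small_dual a V (φ j V hj w) - toExt small_dual a V (φ i V hi w)
      rw [← map_sub, hc i j V hi hj w, show L.ρ V le_top w = r from hs₀ V r, add_sub_cancel_left]
    have h0 : psi (x := x) (U := U) haff η.cl = 0 := hu
    rw [psi_eq haff η hrep rfl, Submodule.mkQ_apply, Submodule.Quotient.mk_eq_zero] at h0
    obtain ⟨y, hy⟩ := h0
    let e : ∀ i, Fld x (U i) := fun i =>
      fld x (mres (G x) (le_W U ![i] (Fin.forall_fin_one.2 le_rfl)) (y ![i]))
    have he : ∀ i j (V : X.affineOpens) (hi : V.1 ≤ U i) (hj : V.1 ≤ U j) (r : Γ(X, V.1)),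
        (c i j).D V (le_inf hi hj) r = (e j).D V hj r - (e i).D V hi r := fun i j V hi hj r => by
      rw [← hz i j V hi hj r]
      refine (congrArg (fun w : BCCoh.cxX x U (G x) 1 => evA x V _ r (w ![i, j])) hy.symm).trans ?_
      refine (evA_cxd_zero y i j V hi hj r).trans ?_
      show _ = ev x V.1 (mres (G x) _ (mres (G x) _ (y ![j]))) r - ev x V.1 (mres (G x) _ (mres (G x) _ (y ![i]))) r
      rw [mres_mres, mres_mres]
      rfl
    choose ψ hψ using fun i => exists_twist small_dual (θ i) ((e i).negRestr (inf_le_left : U i ⊓ U i ≤ U i))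
    obtain ⟨ε⟩ := nonempty_iso_of_agree small_dual a b (θ := ψ) (fun i j V hi hj d => by
      rw [hψ, hψ]
      show φ i V hi d + M.tm V le_top (-(e i).D V hi (L.ρ V le_top d)) =
        φ j V hj d + M.tm V le_top (-(e j).D V hj (L.ρ V le_top d))
      rw [hc i j V hi hj d, he i j V hi hj, M.tm_sub small_dual, M.tm_neg small_dual, M.tm_neg small_dual]
      abel) hU
    have hz0 : (0 : TangentSpace (defFunctor (Λ := k) X x)) = η₀.cl := by
      rw [← zero_smul k (TangentSpace.mk η₀.cl : TangentSpace (defFunctor (Λ := k) X x))]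
      refine (TangentStr.smul_eq (0 : k) η₀.cl).trans ?_
      have hfac : (Art.scale (0 : k) : D₁ k ⟶ D₁ k) = toBase (dual k k) ≫ ofBase (dual k k) :=
        GrothLib.ArtFun.hom_ext_apply fun d => TrivSqZeroExt.ext rfl (zero_mul _)
      rw [hfac, Functor.map_comp]
      show (defFunctor X x).map (ofBase (dual k k)) ((defFunctor X x).map (toBase (dual k k)) η₀.cl) = _
      rw [(GrothLib.DefGlue19.h0_defFunctor X x).2.elim ((defFunctor X x).map (toBase (dual k k)) η₀.cl) ξ.cl]
      rfl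
    exact Eq.trans (Quotient.sound (s := DefSch.setoid X x (dual k k)) ⟨ε⟩ : (η.cl : (defFunctor (Λ := k) X x).obj (dual k k)) = η₀.cl) hz0.symm
  · obtain ⟨zc, rfl⟩ := Submodule.Quotient.mk_surjective (B1 x U) q
    obtain ⟨z, hzm⟩ := zc
    let c : ∀ i j, Fld x (U2 U i j) := fun i j =>
      (fld x (mres (G x) (U2_le_W U i j) (z ![i, j]))).negRestr le_rfl
    have hc : ∀ i j (V : X.affineOpens) (hi : V.1 ≤ U i) (hj : V.1 ≤ U j) (r : Γ(X, V.1)),
        (c i j).D V (le_inf hi hj) r = -evA x V ((le_inf hi hj).trans (U2_le_W U i j)) r (z ![i, j]) :=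
      fun i j V hi hj r => by
        show -(ev x V.1 (mres (G x) _ (mres (G x) _ (z ![i, j]))) r) = _
        rw [mres_mres]
        rfl
    obtain ⟨θ, hθ, hco⟩ := exists_isTwist small_dual b c (fun i j l V hi hj hl r => by
      rw [hc j l V hj hl, hc i l V hi hl, hc i j V hi hj]
      have key : ∀ (a : Fin (1 + 1) → ι) (a' : Fin (1 + 1) → ι) (e : a = a') (h₁ : V.1 ≤ BCCoh.W U a)
          (h₂ : V.1 ≤ BCCoh.W U a'), evA x V h₁ r (z a) = evA x V h₂ r (z a') := by
        rintro a a' rfl h₁ h₂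
        rfl
      have hV : V.1 ≤ BCCoh.W U ![i, j, l] := le_W U _ (fun q => by fin_cases q <;> assumption)
      have h := congrArg (evA x V hV r) (congrFun (LinearMap.mem_ker.1 hzm) ![i, j, l])
      change evA x V hV r (BCCoh.cxd x U (G x) 1 z ![i, j, l]) = evA x V hV r 0 at h
      rw [BCCoh.cxd_apply, map_sum, map_zero] at h
      simp only [map_zsmul, evA_resA] at h
      rw [Fin.sum_univ_three] at h
      simp only [Fin.val_zero, Fin.val_one, Fin.val_two, pow_zero, pow_one, neg_one_sq, one_smul, neg_smul] at h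
      have v0 : (fun t : Fin 2 => (![i, j, l] : Fin 3 → ι) ((0 : Fin 3).succAbove t)) = ![j, l] := by
        funext t; fin_cases t <;> rfl
      have v1 : (fun t : Fin 2 => (![i, j, l] : Fin 3 → ι) ((1 : Fin 3).succAbove t)) = ![i, l] := by
        funext t; fin_cases t <;> rfl
      have v2 : (fun t : Fin 2 => (![i, j, l] : Fin 3 → ι) ((2 : Fin 3).succAbove t)) = ![i, j] := by
        funext t; fin_cases t <;> rfl
      rw [key _ _ v0 _ ((le_inf hj hl).trans (U2_le_W U j l)), key _ _ v1 _ ((le_inf hi hl).trans (U2_le_W U i l)),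
        key _ _ v2 _ ((le_inf hi hj).trans (U2_le_W U i j))] at h
      linear_combination -h)
    obtain ⟨ζ, a, ch, hf, htr, hg⟩ := Glue.exists_lift' hco small_dual hU
    obtain ⟨μ, hμ⟩ := exists_mors_of_charts small_dual hco a ch hf htr hg
    let M := Gl.sys small_dual a
    let φ : ∀ (i : ι) (V : X.affineOpens), V.1 ≤ U i → (L.E V le_top →+* M.E V le_top) :=
      fun i V h => ((μ i).symm small_dual).φ V h h
    have hrep : IsRep (secsOfMors small_dual a b (fun i => (μ i).symm small_dual) s₀) (eps : D₁ k) z := by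
      intro i j V hi hj r
      let d := fromExt small_dual b V (s₀.σ PUnit.unit V le_top r)
      have hd : φ i V hi d = φ j V hj d + M.tm V le_top ((c i j).D V (le_inf hi hj) r) := by
        refine ((μ j).bijective small_dual V hj hj).1 ?_
        have h1 : (μ j).φ V hj hj (φ i V hi d) = (θ i j).φ V hi hj d :=
          (hμ i j V hi hj _).symm.trans (congrArg ((θ i j).φ V hi hj) ((μ i).φ_symm small_dual V hi hi d))
        refine h1.trans ((hθ i j V hi hj d).trans ?_)
        rw [show L.ρ V le_top d = r from hs₀ V r]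
        refine Eq.trans ?_ (map_add ((μ j).φ V hj hj) _ _).symm
        exact congrArg₂ (· + ·) ((μ j).φ_symm small_dual V hj hj d).symm ((μ j).tm small_dual V hj hj _).symm
      obtain ⟨w, hw, ew⟩ := toExt_tm small_dual a V (-(c i j).D V (le_inf hi hj) r)
      refine ⟨w, by rw [hw, hc i j V hi hj, neg_neg], ew.trans ?_⟩
      show _ = toExt small_dual a V (φ j V hj d) - toExt small_dual a V (φ i V hi d)
      rw [← map_sub, hd, M.tm_neg small_dual]
      congr 1
      abel
    exact ⟨TangentSpace.mk ζ.cl, psi_eq haff ζ hrep rfl⟩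

end GrothLib.DefSm26
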