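import Groth.Agent.Lib.DefSm26.Hom
import Groth.Agent.Lib.DefSm26.CechOne

/-!
# A twist of a lift isomorphic to the lift comes from a coboundary
-/

set_option autoImplicit false
set_option maxHeartbeats 800000
set_option linter.style.haveILetI false
set_option backward.isDefEq.respectTransparency false
universe u

noncomputable section

open CategoryTheory CategoryTheory.Limits AlgebraicGeometry Opposite TopologicalSpace ArtFun ArtFun.Art IsLocalRing
open GrothLib.DefFin26 (cst ext red ext_mono isAffineOpen_ext preimage_ext surjective_i_fun)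

namespace GrothLib.DefSm26

variable {Λ : Type u} [CommRing Λ] {k : Type u} [Field k] [Algebra Λ k]
variable {X : Scheme.{u}} {x : X ⟶ Spec (CommRingCat.of k)}
variable {A B : Art Λ k} {p : B ⟶ A} {t : B} {ξ : DefSch X x A} {ι : Type u} {Uc : ι → X.Opens}
variable (hs : Small p t) {η : DefSch X x B} (b : GrothLib.DefGlue19.Arr p η ξ)

open Glue (J ix le_ix R tr qR bijective_qR)

/-- The restrictions of the system of a lift to the members of a cover. -/
abbrev memb (i : ι) : Sys p t ξ (Uc i) := (Gl.sys hs b).restr le_top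

/-- A twisting of the identical comparisons by a family of derivations. -/
def IsTwist (c : ∀ i j, Fld x (U2 Uc i j))
    (θ : ∀ i j, Mor (memb (Uc := Uc) hs b i) (memb (Uc := Uc) hs b j)) : Prop :=
  ∀ i j (V : X.affineOpens) (hi : V.1 ≤ Uc i) (hj : V.1 ≤ Uc j) (z : (Gl.sys hs b).E V le_top),
    (θ i j).φ V hi hj z = z + (Gl.sys hs b).tm V le_top ((c i j).D V (le_inf hi hj) ((Gl.sys hs b).ρ V le_top z))

/-- A cocycle gives a twisting with the cocycle condition. -/
theorem exists_isTwist (c : ∀ i j, Fld x (U2 Uc i j))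
    (hc : ∀ i j l (V : X.affineOpens) (hi : V.1 ≤ Uc i) (hj : V.1 ≤ Uc j) (hl : V.1 ≤ Uc l) (r : Γ(X, V.1)),
      (c j l).D V (le_inf hj hl) r - (c i l).D V (le_inf hi hl) r + (c i j).D V (le_inf hi hj) r = 0) :
    ∃ θ, IsTwist hs b c θ ∧ IsCocycle (memb (Uc := Uc) hs b) θ := by
  choose θ hθ using fun i j => exists_twist hs (Mor.restrId (Gl.sys hs b) (le_top : Uc i ≤ ⊤) (le_top : Uc j ≤ ⊤)) (c i j)
  have hθ' : IsTwist hs b c θ := fun i j V hi hj z => hθ i j V hi hj z
  refine ⟨θ, hθ', fun i j l V hi hj hl z => ?_⟩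
  let L := Gl.sys hs b
  change L.E V le_top at z
  show (θ j l).φ V hj hl ((θ i j).φ V hi hj z) = (θ i l).φ V hi hl z
  have h1 := hθ' i j V hi hj z
  have h2 := hθ' j l V hj hl ((θ i j).φ V hi hj z)
  have h3 := hθ' i l V hi hl z
  refine h2.trans ?_
  rw [h3]
  let T : L.E V le_top →+* L.E V le_top := (θ i j).φ V hi hj
  show T z + L.tm V le_top ((c j l).D V (le_inf hj hl) (L.ρ V le_top (T z))) =
    z + L.tm V le_top ((c i l).D V (le_inf hi hl) (L.ρ V le_top z))
  rw [show L.ρ V le_top (T z) = L.ρ V le_top z from (θ i j).ρ V hi hj z]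
  refine (congrArg (fun w : L.E V le_top => w + _) h1).trans ?_
  show z + L.tm V le_top _ + L.tm V le_top _ = _
  rw [add_assoc, ← L.tm_add hs]
  congr 2
  linear_combination hc i j l V hi hj hl (L.ρ V le_top z)

/-- If the twisted lift is isomorphic to the lift, the twist is a coboundary. -/
theorem exists_coboundary {c : ∀ i j, Fld x (U2 Uc i j)}
    {θ : ∀ i j, Mor (memb (Uc := Uc) hs b i) (memb (Uc := Uc) hs b j)}
    (hθ : IsTwist hs b c θ) (hco : IsCocycle (memb (Uc := Uc) hs b) θ) {ζ : DefSch X x B}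
    (a : GrothLib.DefGlue19.Arr p ζ ξ) (ch : ∀ V : J Uc, Spec (R (memb (Uc := Uc) hs b) V) ⟶ ζ.total)
    (hf : ∀ V, ch V ≫ ζ.f = Spec.map (CommRingCat.ofHom ((memb (Uc := Uc) hs b (ix V)).s V.1 (le_ix V))))
    (htr : ∀ (V V' : J Uc) (h : V' ≤ V), Spec.map (tr (memb (Uc := Uc) hs b) θ h) ≫ ch V = ch V')
    (hg : ∀ V : J Uc, (isAffineOpen_ext ξ V.1.2).fromSpec ≫ a.hom = Spec.map (qR (memb (Uc := Uc) hs b) V) ≫ ch V)
    (Ψ : ζ.total ⟶ η.total) (hΨf : Ψ ≫ η.f = ζ.f) (hΨ : a.hom ≫ Ψ = b.hom) :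
    ∃ e : ∀ i, Fld x (Uc i), ∀ i j (V : X.affineOpens) (hi : V.1 ≤ Uc i) (hj : V.1 ≤ Uc j) (r : Γ(X, V.1)),
      (c i j).D V (le_inf hi hj) r = (e j).D V hj r - (e i).D V hi r := by
  let L := Gl.sys hs b
  have hr : ∀ V : J Uc, Set.range (ch V ≫ Ψ) ⊆ Set.range (Gl.fromSpec hs b V.1) := by
    intro V
    rintro _ ⟨y, rfl⟩
    obtain ⟨w, rfl⟩ := (bijective_qR (L := memb (Uc := Uc) hs b) hs V).2 y
    rw [← Scheme.Hom.comp_apply, ← Category.assoc, ← hg, Category.assoc, hΨ, Gl.range_fromSpec]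
    exact (Gl.mem_op hs b _).2 ((isAffineOpen_ext ξ V.1.2).range_fromSpec.subset ⟨w, rfl⟩)
  let m := fun V : J Uc => IsOpenImmersion.lift (Gl.fromSpec hs b V.1) (ch V ≫ Ψ) (hr V)
  let α : ∀ V : J Uc, L.E V.1 le_top ⟶ R (memb (Uc := Uc) hs b) V := fun V => Spec.preimage (m V)
  have hα : ∀ V, Spec.map (α V) ≫ Gl.fromSpec hs b V.1 = ch V ≫ Ψ := fun V => by
    show Spec.map (Spec.preimage _) ≫ _ = _
    rw [Spec.map_preimage]
    exact IsOpenImmersion.lift_fac _ _ _
  have hαπ : ∀ (V : J Uc) z, L.π V.1 le_top ((α V).hom z) = L.π V.1 le_top z := fun V z => by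
    have h1 : α V ≫ qR (memb (Uc := Uc) hs b) V = CommRingCat.ofHom (L.π V.1 le_top) := by
      refine Spec.map_injective ?_
      rw [← cancel_mono (Gl.fromSpec hs b V.1), Spec.map_comp, Category.assoc, hα, Gl.π_fromSpec,
        ← Category.assoc, ← hg, Category.assoc, hΨ]
    exact congr($(h1) z)
  have hαs : ∀ (V : J Uc) r, (α V).hom (L.s V.1 le_top r) = L.s V.1 le_top r := fun V r => by
    have h1 : CommRingCat.ofHom (L.s V.1 le_top) ≫ α V = CommRingCat.ofHom (L.s V.1 le_top) := by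
      refine Spec.map_injective ?_
      rw [Spec.map_comp, ← Gl.s_fromSpec, ← Category.assoc, hα, Category.assoc, hΨf, hf, Gl.s_fromSpec]
      rfl
    exact congr($(h1) r)
  have hαr : ∀ (V V' : J Uc) (h : V' ≤ V) z,
      (tr (memb (Uc := Uc) hs b) θ h).hom ((α V).hom z) = (α V').hom (L.res V.1 V'.1 h le_top z) := by
    intro V V' h z
    have h1 : α V ≫ tr (memb (Uc := Uc) hs b) θ h = CommRingCat.ofHom (L.res V.1 V'.1 h le_top) ≫ α V' := by
      refine Spec.map_injective ?_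
      rw [← cancel_mono (Gl.fromSpec hs b V.1), Spec.map_comp, Spec.map_comp, Category.assoc, Category.assoc, hα,
        Gl.res_fromSpec hs b V.1 V'.1 h, hα, ← Category.assoc, htr]
    exact congr($(h1) z)
  let v : ∀ (i : ι) (V : X.affineOpens), V.1 ≤ Uc i → J Uc := fun i V h => ⟨V, i, h⟩
  let β : ∀ (i : ι) (V : X.affineOpens), V.1 ≤ Uc i → (L.E V le_top →+* L.E V le_top) := fun i V h =>
    ((θ (ix (v i V h)) i).φ V (le_ix (v i V h)) h).comp (α (v i V h)).hom
  have hβres : ∀ i (V V' : X.affineOpens) (h : V'.1 ≤ V.1) (hV : V.1 ≤ Uc i) z,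
      β i V' (h.trans hV) (L.res V V' h le_top z) = L.res V V' h le_top (β i V hV z) := by
    intro i V V' h hV z
    let W := v i V hV
    let W' := v i V' (h.trans hV)
    show (θ (ix W') i).φ V' (le_ix W') _ ((α W').hom (L.res V V' h le_top z)) =
      L.res V V' h le_top ((θ (ix W) i).φ V (le_ix W) hV ((α W).hom z))
    rw [← hαr W W' h z]
    show (θ (ix W') i).φ V' _ _ ((θ (ix W) (ix W')).φ V' _ _ ((memb (Uc := Uc) hs b (ix W)).res V V' h _ ((α W).hom z))) = _
    rw [hco (ix W) (ix W') i V' (h.trans (le_ix W)) (le_ix W') (h.trans hV)]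
    exact (θ (ix W) i).res V V' h (le_ix W) hV _
  have hE : ∀ i, ∃ E : Fld x (Uc i), ∀ (V : X.affineOpens) (hV : V.1 ≤ Uc i) (z : L.E V le_top),
      β i V hV z = z + L.tm V le_top (E.D V hV (L.ρ V le_top z)) := by
    intro i
    obtain ⟨E, hE⟩ := exists_diff hs (memb (Uc := Uc) hs b i) (memb (Uc := Uc) hs b i) (W := Uc i) le_rfl le_rfl
      (fun V hV => RingHom.id (L.E V le_top)) (fun V hV => β i V hV)
      (fun V V' h hV z => rfl) (fun V V' h hV z => hβres i V V' h hV z)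
      (fun V hV z => rfl)
      (fun V hV z => ((θ (ix (v i V hV)) i).π V (le_ix (v i V hV)) hV _).trans (hαπ (v i V hV) z))
      (fun V hV r => rfl)
      (fun V hV r => (congrArg ((θ (ix (v i V hV)) i).φ V (le_ix (v i V hV)) hV) (hαs (v i V hV) r)).trans
        ((θ (ix (v i V hV)) i).s V (le_ix (v i V hV)) hV r))
    exact ⟨E, fun V hV z => hE V hV z⟩
  choose e he using hE
  refine ⟨e, fun i j V hi hj r => ?_⟩
  obtain ⟨z, rfl⟩ := L.ρ_surj V le_top r
  refine L.tm_inj hs V le_top ?_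
  have hindep : ∀ (W W' : J Uc) (e₀ : W.1 = W'.1), W = W' := fun W W' e₀ => Subtype.ext e₀
  have hv : v i V hi = v j V hj := hindep _ _ rfl
  have key : β j V hj z = (θ i j).φ V hi hj (β i V hi z) := by
    refine Eq.trans ?_ (hco (ix (v i V hi)) i j V (le_ix (v i V hi)) hi hj ((α (v i V hi)).hom z)).symm
    rfl
  rw [hθ i j V hi hj, he i V hi, he j V hj] at key
  rw [map_add, L.ρ_tm hs, add_zero] at key
  rw [L.tm_sub hs]
  linear_combination -key

end GrothLib.DefSm26
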